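import Groth.Agent.CubicPf.Extension

/-!
# Fields of definition of linear Pfaffian representations
-/

set_option autoImplicit false

universe u v

open MvPolynomial

namespace Groth.Agent.CubicPf

/-- Representations are preserved by extension of the base field. -/
theorem HasPf.map {K : Type u} [Field K] {K' : Type v} [Field K'] {G : MvPolynomial (Fin 4) K} (h : HasPf G)
    (σ : K →+* K') : HasPf (MvPolynomial.map σ G) := by
  obtain ⟨M, hM, hT, h0, c, hc, hdet⟩ := h
  refine ⟨M.map (MvPolynomial.map σ), fun i j => (hM i j).map σ, ?_, fun i => ?_, σ c,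
    (_root_.map_ne_zero σ).2 hc, ?_⟩
  · ext1 i j
    have := congrFun (congrFun hT i) j
    simp only [Matrix.transpose_apply, Matrix.neg_apply, Matrix.map_apply] at this ⊢
    rw [this, map_neg]
  · rw [Matrix.map_apply, h0, map_zero]
  · rw [← RingHom.mapMatrix_apply, ← RingHom.map_det, hdet, map_mul, map_pow, MvPolynomial.map_C]

/-- Either a representation over the base field, or over every field generated by a root of one cubic. -/
theorem point_or_line (k : Type u) [Field k] [CharZero k] (F : MvPolynomial (Fin 4) k) (hF : F.IsHomogeneous 3)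
    (hirr : Irreducible (MvPolynomial.map (algebraMap k (AlgebraicClosure k)) F))
    (hcone : ¬ ∃ v : Fin 4 → k, v ≠ 0 ∧ ∑ i : Fin 4, v i • pderiv i F = 0) :
    HasPf F ∨ ∃ q : Polynomial k, q.natDegree = 3 ∧ ∀ r : AlgebraicClosure k, Polynomial.aeval r q = 0 →
      HasPf (MvPolynomial.map (algebraMap k (IntermediateField.adjoin k ({r} : Set (AlgebraicClosure k)))) F) := by
  classical
  have hτ := pol_sym F
  haveI : CharZero (AlgebraicClosure k) :=
    charZero_of_injective_algebraMap (algebraMap k (AlgebraicClosure k)).injective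
  haveI : IsGalois k (AlgebraicClosure k) := {}
  rcases exists_choice (L := AlgebraicClosure k) F hF hirr hcone with ⟨x, hx0, hx⟩ | ⟨u, v, hv, hline⟩
  · left
    have hsing : ∀ w, tri (pol (MvPolynomial.map (algebraMap k (AlgebraicClosure k)) F))
        (algebraMap k (AlgebraicClosure k) ∘ x) (algebraMap k (AlgebraicClosure k) ∘ x) w = 0 := by
      intro w
      rw [tri_map_pol]
      have e : (∑ l, w l • (algebraMap k (AlgebraicClosure k) ∘ Pi.single l (1 : k))) = w := by
        funext j
        rw [Finset.sum_apply, Finset.sum_eq_single j (fun l _ hl => by simp [Pi.single_eq_of_ne' hl])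
          (fun h => absurd (Finset.mem_univ j) h)]
        simp
      rw [tri_comm₂ hτ, tri_comm₁ hτ, ← e, tri_sum]
      refine Finset.sum_eq_zero fun l _ => ?_
      rw [tri_smul, tri_comm₁ hτ, tri_comm₂ hτ]
      have := tri_map (τ := pol F) (Algebra.ofId k (AlgebraicClosure k)) x x (Pi.single l (1 : k))
      rw [hx, map_zero] at this
      exact mul_eq_zero_of_right _ this.symm
    have hFx : eval x F = 0 := by rw [eval_eq_tri F hF]; exact hx x
    have h := hasPf_of_point (k := k) (L := AlgebraicClosure k) (E := k) F hF hirr hcone x hx0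
      (by rw [Algebra.algebraMap_self, MvPolynomial.map_id]; exact hFx)
      (notT_of_sing _ (hF.map _) hirr hsing)
    rwa [Algebra.algebraMap_self, MvPolynomial.map_id] at h
  · right
    refine ⟨Polynomial.C (tri (pol F) v v v) * Polynomial.X ^ 3 + Polynomial.C (3 * tri (pol F) u v v) * Polynomial.X ^ 2
      + Polynomial.C (3 * tri (pol F) u u v) * Polynomial.X + Polynomial.C (tri (pol F) u u u),
      Polynomial.natDegree_cubic (by rwa [← eval_eq_tri F hF]), fun r hr => ?_⟩
    have hq : eval (algebraMap k (AlgebraicClosure k) ∘ u + r • algebraMap k (AlgebraicClosure k) ∘ v)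
        (MvPolynomial.map (algebraMap k (AlgebraicClosure k)) F) = 0 := by
      rw [eval_eq_tri _ (hF.map _), tri_map_pol, cube_add hτ]
      have e : ∀ a b c : Fin 4 → k, tri (pol F) (algebraMap k (AlgebraicClosure k) ∘ a)
          (algebraMap k (AlgebraicClosure k) ∘ b) (algebraMap k (AlgebraicClosure k) ∘ c) =
          algebraMap k (AlgebraicClosure k) (tri (pol F) a b c) := fun a b c =>
        (tri_map (τ := pol F) (Algebra.ofId k (AlgebraicClosure k)) a b c).symm
      simp only [e]
      simp only [map_add, map_mul, map_ofNat, Polynomial.aeval_C, map_pow, Polynomial.aeval_X] at hr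
      linear_combination hr
    obtain ⟨hne, hT⟩ := hline r hq
    set E := IntermediateField.adjoin k ({r} : Set (AlgebraicClosure k)) with hE
    let a : Fin 4 → E := fun i => algebraMap k E (u i) + (⟨r, IntermediateField.mem_adjoin_simple_self k r⟩ : E) *
      algebraMap k E (v i)
    have ea : algebraMap E (AlgebraicClosure k) ∘ a =
        algebraMap k (AlgebraicClosure k) ∘ u + r • algebraMap k (AlgebraicClosure k) ∘ v := by
      funext i
      simp only [Function.comp_apply, a, map_add, map_mul, ← IsScalarTower.algebraMap_apply, Pi.add_apply,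
        Pi.smul_apply, smul_eq_mul]
      rfl
    haveI : CharZero E := charZero_of_injective_algebraMap (algebraMap k E).injective
    refine hasPf_of_point (k := k) (L := AlgebraicClosure k) (E := E) F hF hirr hcone a (fun h => hne ?_) ?_
      (by rw [ea]; exact hT)
    · rw [← ea, h]
      funext i
      simp
    · refine (algebraMap E (AlgebraicClosure k)).injective ?_
      rw [map_zero, MvPolynomial.eval_map, MvPolynomial.eval₂_comp_left, ← IsScalarTower.algebraMap_eq,
        ← MvPolynomial.eval_map, ea]
      exact hq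

theorem finrank_adjoin_le {k : Type u} [Field k] {L : Type v} [Field L] [Algebra k L] {q : Polynomial k}
    (hq : q.natDegree = 3) {r : L} (hr : Polynomial.aeval r q = 0) :
    FiniteDimensional k (IntermediateField.adjoin k ({r} : Set L)) ∧
      Module.finrank k (IntermediateField.adjoin k ({r} : Set L)) ≤ 3 := by
  have hq0 : q ≠ 0 := fun h => by simp [h] at hq
  have hint : IsIntegral k r := IsAlgebraic.isIntegral ⟨q, hq0, hr⟩
  refine ⟨IntermediateField.adjoin.finiteDimensional hint, ?_⟩
  rw [IntermediateField.adjoin.finrank hint, ← hq]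
  exact Polynomial.natDegree_le_of_dvd (minpoly.dvd k r hr) hq0

theorem exists_real_root {p : Polynomial ℝ} (h : p.natDegree = 3) : ∃ r, p.eval r = 0 := by
  have h3 : p.coeff 3 ≠ 0 := by
    have := Polynomial.leadingCoeff_ne_zero.2 (show p ≠ 0 from fun h0 => by simp [h0] at h)
    rwa [Polynomial.leadingCoeff, h] at this
  set a := p.coeff 2 / p.coeff 3
  set b := p.coeff 1 / p.coeff 3
  set c := p.coeff 0 / p.coeff 3
  have he : ∀ x, p.eval x = p.coeff 3 * (x ^ 3 + a * x ^ 2 + b * x + c) := fun x => by
    rw [Polynomial.eval_eq_sum_range, h]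
    simp only [Finset.sum_range_succ, Finset.sum_range_zero, a, b, c]
    field_simp
    ring
  set M := 1 + |a| + |b| + |c| with hM
  have h1 : 1 ≤ M := by have := abs_nonneg a; have := abs_nonneg b; have := abs_nonneg c; rw [hM]; linarith
  have hM0 : 0 ≤ M := by linarith
  have hb : |b| * M ≤ |b| * M ^ 2 := by gcongr; nlinarith
  have hc : |c| ≤ |c| * M ^ 2 := le_mul_of_one_le_right (abs_nonneg c) (by nlinarith)
  have hpos : 0 ≤ M ^ 3 + a * M ^ 2 + b * M + c := by
    nlinarith [mul_le_mul_of_nonneg_right (neg_abs_le a) (sq_nonneg M), mul_le_mul_of_nonneg_right (neg_abs_le b) hM0,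
      neg_abs_le c]
  have hneg : (-M) ^ 3 + a * (-M) ^ 2 + b * (-M) + c ≤ 0 := by
    nlinarith [mul_le_mul_of_nonneg_right (le_abs_self a) (sq_nonneg M), mul_le_mul_of_nonneg_right (neg_abs_le b) hM0,
      le_abs_self c]
  obtain ⟨r, -, hr⟩ := intermediate_value_Icc (show -M ≤ M by linarith)
    (f := fun x => x ^ 3 + a * x ^ 2 + b * x + c) (by fun_prop) ⟨hneg, hpos⟩
  simp only at hr
  exact ⟨r, by rw [he, hr, mul_zero]⟩

end Groth.Agent.CubicPf
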