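import Groth.Agent.CubicPf.Lines

/-!
# Linear Pfaffian representations over extensions of degree at most three
-/

set_option autoImplicit false

universe u v

open MvPolynomial

namespace Groth.Agent.CubicPf

variable {k : Type u} [Field k] {L : Type u} [Field L] [Algebra k L]

theorem pol_map [CharZero k] [CharZero L] (F : MvPolynomial (Fin 4) k) (i j l : Fin 4) :
    pol (map (algebraMap k L) F) i j l = algebraMap k L (pol F i j l) := by
  simp only [pol, pderiv_map, MvPolynomial.constantCoeff_map, map_mul, map_inv₀, map_ofNat]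

theorem tri_map_pol [CharZero k] [CharZero L] (F : MvPolynomial (Fin 4) k) (x y z : Fin 4 → L) :
    tri (pol (map (algebraMap k L) F)) x y z = tri (pol F) x y z := by
  simp only [tri, pol_map, Algebra.smul_def, Algebra.algebraMap_self, RingHom.id_apply]

/-- The conjugate of a singular point is singular. -/
theorem IsSing.conj [CharZero k] [CharZero L] {F : MvPolynomial (Fin 4) k} {x : Fin 4 → L}
    (h : IsSing (map (algebraMap k L) F) x) (g : L ≃ₐ[k] L) : IsSing (map (algebraMap k L) F) (g ∘ x) := by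
  intro v
  have h1 := h (g.symm ∘ v)
  rw [tri_map_pol] at h1 ⊢
  have h2 := tri_map (τ := pol F) (g : L →ₐ[k] L) x x (g.symm ∘ v)
  rw [h1, map_zero] at h2
  have e : ⇑(g : L →ₐ[k] L) ∘ (⇑g.symm ∘ v) = v := funext fun i => g.apply_symm_apply (v i)
  rw [e] at h2
  exact h2.symm

/-- Five singular points force a rational singular point. -/
theorem exists_rational_sing [CharZero k] [IsGalois k L] [CharZero L] (F : MvPolynomial (Fin 4) k)
    (hF : F.IsHomogeneous 3) (hplane : NoPlane (map (algebraMap k L) F))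
    (hinf : (singClasses (map (algebraMap k L) F)).Infinite) :
    ∃ x : Fin 4 → k, x ≠ 0 ∧ ∀ v, tri (pol F) x x v = 0 := by
  classical
  set FL := map (algebraMap k L) F with hFL
  obtain ⟨s, hs, hcard⟩ := hinf.exists_subset_card_eq 5
  obtain ⟨x, y, hxy, hx, hy, hD⟩ := sing_collinear (hF.map _) hplane s hs hcard.ge
  have hne : ∀ α β : L, α • x + β • y = 0 → α = 0 ∧ β = 0 := LinearIndependent.pair_iff.1 hxy
  obtain ⟨W, hW, hWne⟩ := Finset.exists_mem_notMem_of_card_lt_card
    (show ({Submodule.span L {x}, Submodule.span L {y}} : Finset _).card < s.card by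
      have := Finset.card_le_two (a := Submodule.span L {x}) (b := Submodule.span L {y})
      omega)
  obtain ⟨z, hz0, hz, rfl⟩ := hs hW
  obtain ⟨α, β, rfl⟩ := Submodule.mem_span_pair.1 (hD z hz)
  simp only [Finset.mem_insert, Finset.mem_singleton, not_or] at hWne
  have hα : α ≠ 0 := fun h => hWne.2 (by
    subst h
    have hβ : β ≠ 0 := fun h => hz0 (by simp [h])
    simp only [zero_smul, zero_add]
    exact Submodule.span_singleton_smul_eq (IsUnit.mk0 β hβ) y)
  have hβ : β ≠ 0 := fun h => hWne.1 (by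
    subst h
    simp only [zero_smul, add_zero]
    exact Submodule.span_singleton_smul_eq (IsUnit.mk0 α hα) x)
  have hline : ∀ a b : L, IsSing FL (a • x + b • y) := fun a b => by
    have := sing_line (hx.smul α) hy hβ hz (a / α) b
    rwa [smul_smul, div_mul_cancel₀ _ hα] at this
  obtain ⟨i, hi⟩ : ∃ i, x i ≠ 0 := Function.ne_iff.1 (LinearIndependent.ne_zero (i := 0) hxy)
  set z₀ := y i • x + (-x i) • y with hz₀
  have hz₀0 : z₀ ≠ 0 := fun h => hi (neg_eq_zero.1 (hne _ _ h).2)
  obtain ⟨j, hj⟩ := Function.ne_iff.1 hz₀0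
  simp only [Pi.zero_apply] at hj
  set w := (z₀ j)⁻¹ • z₀
  have hw : IsSing FL w := (hline _ _).smul _
  have huniq : ∀ v, IsSing FL v → v i = 0 → v j = 1 → v = w := by
    intro v hv hvi hvj
    obtain ⟨a, b, rfl⟩ := Submodule.mem_span_pair.1 (hD v hv)
    have e : a • x + b • y = (-(b / x i)) • z₀ := by
      simp only [Pi.add_apply, Pi.smul_apply, smul_eq_mul] at hvi
      have ha : a = -(b / x i) * y i := by field_simp; linear_combination hvi
      funext l
      simp only [hz₀, Pi.add_apply, Pi.smul_apply, smul_eq_mul, ha]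
      field_simp
      ring
    rw [e] at hvj ⊢
    simp only [Pi.smul_apply, smul_eq_mul] at hvj
    show _ = (z₀ j)⁻¹ • z₀
    rw [(eq_inv_of_mul_eq_one_left hvj)]
  have hwi : w i = 0 := by simp only [w, hz₀, Pi.smul_apply, Pi.add_apply, smul_eq_mul]; ring
  have hwj : w j = 1 := by simp [w, hj]
  have hfix : ∀ (g : L ≃ₐ[k] L) (l : Fin 4), g (w l) = w l := fun g l => by
    have := huniq (g ∘ w) (hw.conj g) (by simp [hwi]) (by simp [hwj])
    exact congrFun this l
  choose x₀ hx₀ using fun l => (InfiniteGalois.mem_range_algebraMap_iff_fixed (w l)).2 fun g => hfix g l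
  refine ⟨x₀, fun h => ?_, fun v => ?_⟩
  · have := hx₀ j
    rw [h, hwj, Pi.zero_apply, map_zero] at this
    exact zero_ne_one this
  · refine (algebraMap k L).injective ?_
    have h1 := tri_map (τ := pol F) (Algebra.ofId k L) x₀ x₀ v
    have h2 := hw (algebraMap k L ∘ v)
    rw [tri_map_pol] at h2
    rw [map_zero]
    refine h1.trans ?_
    have e : ⇑(Algebra.ofId k L) ∘ x₀ = w := funext hx₀
    rw [e]
    exact h2

/-- Functions of the coefficients which vanish on degenerate sections. -/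
def mins {R : Type v} [CommRing R] (q₀ q₁ q₂ c₀ c₁ c₂ c₃ : R) : Fin 4 → R :=
  ![q₀ * (q₀ * c₂ - q₁ * c₁) + c₀ * (q₁ ^ 2 - q₂ * q₀),
    q₀ * (q₀ * c₃ - q₂ * c₁) + c₀ * (q₁ * q₂),
    q₀ * (q₁ * c₃ - q₂ * c₂) + c₀ * q₂ ^ 2,
    q₁ * (q₁ * c₃ - q₂ * c₂) - q₂ * (q₀ * c₃ - q₂ * c₁)]

/-- The functions attached to three vectors. -/
def minsT {R : Type v} [CommRing R] [Algebra k R] (τ : Fin 4 → Fin 4 → Fin 4 → k) (a u w : Fin 4 → R) : Fin 4 → R :=
  mins (3 * tri τ a u u) (6 * tri τ a u w) (3 * tri τ a w w) (tri τ u u u) (3 * tri τ u u w) (3 * tri τ u w w)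
    (tri τ w w w)

theorem minsT_map {R S : Type v} [CommRing R] [CommRing S] [Algebra k R] [Algebra k S] (φ : R →ₐ[k] S)
    (τ : Fin 4 → Fin 4 → Fin 4 → k) (a u w : Fin 4 → R) (i : Fin 4) :
    φ (minsT τ a u w i) = minsT τ (φ ∘ a) (φ ∘ u) (φ ∘ w) i := by
  fin_cases i <;>
    simp [minsT, mins, ← tri_map, map_ofNat]

theorem mins_prod [CharZero L] {q₀ q₁ q₂ c₀ c₁ c₂ c₃ : L} (p q r : Fin 3 → L)
    (h : ∀ x y z : L, x * (q₀ * y ^ 2 + q₁ * (y * z) + q₂ * z ^ 2) + c₀ * y ^ 3 + c₁ * (y ^ 2 * z) + c₂ * (y * z ^ 2)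
      + c₃ * z ^ 3 = ∏ i, (x * p i + y * q i + z * r i)) (i : Fin 4) : mins q₀ q₁ q₂ c₀ c₁ c₂ c₃ i = 0 := by
  simp only [Fin.prod_univ_three] at h
  have hppp : p 0 * p 1 * p 2 = 0 := by linear_combination -(h 1 0 0)
  have hppq : p 0 * p 1 * q 2 + p 0 * q 1 * p 2 + q 0 * p 1 * p 2 = 0 := by
    linear_combination -(h 1 1 0) / 2 - (h (-1) 1 0) / 2 + h 0 1 0
  have hppr : p 0 * p 1 * r 2 + p 0 * r 1 * p 2 + r 0 * p 1 * p 2 = 0 := by
    linear_combination -(h 1 0 1) / 2 - (h (-1) 0 1) / 2 + h 0 0 1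
  have e0 : q₀ = p 0 * q 1 * q 2 + q 0 * p 1 * q 2 + q 0 * q 1 * p 2 := by
    linear_combination (h 1 1 0) / 2 - (h (-1) 1 0) / 2 + hppp
  have e2 : q₂ = p 0 * r 1 * r 2 + r 0 * p 1 * r 2 + r 0 * r 1 * p 2 := by
    linear_combination (h 1 0 1) / 2 - (h (-1) 0 1) / 2 + hppp
  have e1 : q₁ = p 0 * (q 1 * r 2 + r 1 * q 2) + p 1 * (q 0 * r 2 + r 0 * q 2) + p 2 * (q 0 * r 1 + r 0 * q 1) := by
    linear_combination (h 1 1 1) / 2 - (h (-1) 1 1) / 2 - e0 - e2 + hppp
  have f0 : c₀ = q 0 * q 1 * q 2 := by linear_combination h 0 1 0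
  have f3 : c₃ = r 0 * r 1 * r 2 := by linear_combination h 0 0 1
  have f1 : c₁ = q 0 * q 1 * r 2 + q 0 * r 1 * q 2 + r 0 * q 1 * q 2 := by
    linear_combination (h 0 1 1) / 2 - (h 0 1 (-1)) / 2 - f3
  have f2 : c₂ = q 0 * r 1 * r 2 + r 0 * q 1 * r 2 + r 0 * r 1 * q 2 := by
    linear_combination (h 0 1 1) / 2 + (h 0 1 (-1)) / 2 - f0
  subst e0 e1 e2 f0 f1 f2 f3
  have key : (p 0 = 0 ∧ p 1 = 0) ∨ (p 0 = 0 ∧ p 2 = 0) ∨ (p 1 = 0 ∧ p 2 = 0) ∨
      (p 0 = 0 ∧ q 0 = 0 ∧ r 0 = 0) ∨ (p 1 = 0 ∧ q 1 = 0 ∧ r 1 = 0) ∨ (p 2 = 0 ∧ q 2 = 0 ∧ r 2 = 0) := by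
    by_cases h0 : p 0 = 0
    · by_cases h1 : p 1 = 0
      · exact Or.inl ⟨h0, h1⟩
      · by_cases h2 : p 2 = 0
        · exact Or.inr (Or.inl ⟨h0, h2⟩)
        · simp [h0, h1, h2] at hppq hppr
          exact Or.inr (Or.inr (Or.inr (Or.inl ⟨h0, hppq, hppr⟩)))
    · by_cases h1 : p 1 = 0
      · by_cases h2 : p 2 = 0
        · exact Or.inr (Or.inr (Or.inl ⟨h1, h2⟩))
        · simp [h0, h1, h2] at hppq hppr
          exact Or.inr (Or.inr (Or.inr (Or.inr (Or.inl ⟨h1, hppq, hppr⟩))))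
      · have h2 : p 2 = 0 := (mul_eq_zero.1 hppp).resolve_left (mul_ne_zero h0 h1)
        simp [h0, h1, h2] at hppq hppr
        exact Or.inr (Or.inr (Or.inr (Or.inr (Or.inr ⟨h2, hppq, hppr⟩))))
  rcases key with ⟨a, b⟩ | ⟨a, b⟩ | ⟨a, b⟩ | ⟨a, b, c⟩ | ⟨a, b, c⟩ | ⟨a, b, c⟩ <;>
    fin_cases i <;> simp [mins, *] <;> ring

/-- Nondegeneracy of the section from the functions. -/
theorem D_eq_zero_of_mins [CharZero L] {τ : Fin 4 → Fin 4 → Fin 4 → L} (hτ : IsSym τ) {a : Fin 4 → L}
    (f : Frame τ a) (h : ∀ i, minsT τ a f.u f.w i = 0) : f.D = 0 := by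
  set q₀ := 3 * tri τ a f.u f.u with hq₀
  set q₁ := 6 * tri τ a f.u f.w with hq₁
  set q₂ := 3 * tri τ a f.w f.w with hq₂
  set c₀ := tri τ f.u f.u f.u with hc₀
  set c₁ := 3 * tri τ f.u f.u f.w with hc₁
  set c₂ := 3 * tri τ f.u f.w f.w with hc₂
  set c₃ := tri τ f.w f.w f.w with hc₃
  have eq : f.q = Polynomial.C q₀ + Polynomial.C q₁ * Polynomial.X + Polynomial.C q₂ * Polynomial.X ^ 2 := by
    rw [Frame.q, Frame.dir, square_add hτ]
    simp only [hq₀, hq₁, hq₂, tri_cst, Polynomial.algebraMap_eq, map_mul, map_ofNat]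
    ring
  have ec : f.c = Polynomial.C c₀ + Polynomial.C c₁ * Polynomial.X + Polynomial.C c₂ * Polynomial.X ^ 2
      + Polynomial.C c₃ * Polynomial.X ^ 3 := by
    rw [Frame.c, Frame.dir, cube_add hτ]
    simp only [hc₀, hc₁, hc₂, hc₃, tri_cst, Polynomial.algebraMap_eq, map_mul, map_ofNat]
    ring
  have m0 : q₀ * (q₀ * c₂ - q₁ * c₁) + c₀ * (q₁ ^ 2 - q₂ * q₀) = 0 := h 0
  have m1 : q₀ * (q₀ * c₃ - q₂ * c₁) + c₀ * (q₁ * q₂) = 0 := h 1
  have m2 : q₀ * (q₁ * c₃ - q₂ * c₂) + c₀ * q₂ ^ 2 = 0 := h 2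
  have m3 : q₁ * (q₁ * c₃ - q₂ * c₂) - q₂ * (q₀ * c₃ - q₂ * c₁) = 0 := h 3
  obtain ⟨ν, κ, h0, h1, h2, h3⟩ | hq : (∃ ν κ : L, c₀ = ν * q₀ ∧ c₁ = κ * q₀ + ν * q₁ ∧ c₂ = κ * q₁ + ν * q₂ ∧ c₃ = κ * q₂) ∨
      (q₀ = 0 ∧ q₁ = 0 ∧ q₂ = 0) := by
    by_cases a0 : q₀ = 0
    · by_cases a1 : q₁ = 0
      · by_cases a2 : q₂ = 0
        · exact Or.inr ⟨a0, a1, a2⟩
        · have b0 : c₀ = 0 := by simpa [a0, a2] using m2
          have b1 : c₁ = 0 := by simpa [a0, a1, a2] using m3
          refine Or.inl ⟨c₂ / q₂, c₃ / q₂, by simp [a0, b0], by simp [a0, a1, b1], ?_, ?_⟩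
          · simp [a1, div_mul_cancel₀ _ a2]
          · rw [div_mul_cancel₀ _ a2]
      · have b0 : c₀ = 0 := by simpa [a0, a1] using m0
        refine Or.inl ⟨c₁ / q₁, (c₂ - c₁ / q₁ * q₂) / q₁, by simp [a0, b0], ?_, ?_, ?_⟩
        · simp [a0, div_mul_cancel₀ _ a1]
        · rw [div_mul_cancel₀ _ a1]; ring
        · field_simp
          rw [a0] at m3
          linear_combination m3
    · refine Or.inl ⟨c₀ / q₀, (c₁ - c₀ / q₀ * q₁) / q₀, by rw [div_mul_cancel₀ _ a0], ?_, ?_, ?_⟩
      · rw [div_mul_cancel₀ _ a0]; ring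
      · field_simp
        linear_combination m0
      · field_simp
        linear_combination m1
  · have hc : f.c = f.q * (Polynomial.C ν + Polynomial.C κ * Polynomial.X) := by
      rw [ec, eq, h0, h1, h2, h3]
      simp only [map_add, map_mul]
      ring
    simp [Frame.D, hc, Polynomial.derivative_mul]
    ring
  · have h0 : f.q = 0 := by rw [eq, hq.1, hq.2.1, hq.2.2]; simp
    simp [Frame.D, h0]

/-- A form detecting points which are smooth and not T-points. -/
theorem exists_detector [CharZero L] [IsAlgClosed L] (F : MvPolynomial (Fin 4) L) (hF : F.IsHomogeneous 3)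
    (hirr : Irreducible F) (hcone : ¬ ∃ v : Fin 4 → L, v ≠ 0 ∧ ∑ i : Fin 4, v i • pderiv i F = 0)
    (hfin : (singClasses F).Finite) :
    ∃ G : MvPolynomial (Fin 4) L, ¬ F ∣ G ∧ eval 0 G = 0 ∧
      ∀ a, eval a F = 0 → eval a G ≠ 0 → NotT L F a := by
  classical
  have hτ : IsSym (pol F) := pol_sym F
  have hn := not_allT hF hirr hcone hfin
  simp only [AllT, not_forall] at hn
  obtain ⟨b, hFb, hsm, hψ⟩ := hn
  have hb0 : b ≠ 0 := fun h => by
    obtain ⟨v, hv⟩ := hsm
    exact hv (by rw [h, tri_zero])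
  have hbb : tri (pol F) b b b = 0 := by rw [← eval_eq_tri F hF, hFb]
  obtain ⟨f⟩ := exists_frame (pol F) hb0 hbb hsm
  have hphi : ∀ (a x : Fin 4 → L), eval x (∑ i, C (algebraMap L L (eval a (pderiv i F))) * X i) = 3 * tri (pol F) a a x := by
    intro a x
    rw [← eval_pderiv_sum F hF, map_sum]
    exact Finset.sum_congr rfl fun i _ => by
      rw [map_mul, eval_C, eval_X, Algebra.algebraMap_self, RingHom.id_apply, mul_comm]
  have hid : ∀ (a : Fin 4 → L) (L₁ L₂ L₃ : MvPolynomial (Fin 4) L), L₁.IsHomogeneous 1 → L₂.IsHomogeneous 1 →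
      L₃.IsHomogeneous 1 → map (algebraMap L L) F - L₁ * L₂ * L₃ ∈
        Ideal.span {∑ i, C (algebraMap L L (eval a (pderiv i F))) * X i} →
      ∃ ψ : Fin 3 → Module.Dual L (Fin 4 → L), ∀ x, tri (pol F) a a x = 0 → eval x F = ∏ i, ψ i x := by
    intro a L₁ L₂ L₃ h1 h2 h3 hmem
    obtain ⟨ψ₁, e1⟩ := exists_dual_of_hom_one h1
    obtain ⟨ψ₂, e2⟩ := exists_dual_of_hom_one h2
    obtain ⟨ψ₃, e3⟩ := exists_dual_of_hom_one h3
    refine ⟨![ψ₁, ψ₂, ψ₃], fun x hx => ?_⟩
    obtain ⟨c, hc⟩ := Ideal.mem_span_singleton.1 hmem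
    have h := congrArg (eval x) hc
    rw [map_sub, map_mul, map_mul, map_mul, hphi, hx, mul_zero, zero_mul, sub_eq_zero, Algebra.algebraMap_self,
      MvPolynomial.map_id, e1, e2, e3] at h
    rw [h, Fin.prod_univ_three]
    rfl
  have hDb : f.D ≠ 0 := by
    refine D_ne_zero (L := L) F hF hbb f ?_
    rintro ⟨L₁, L₂, L₃, h1, h2, h3, hmem⟩
    obtain ⟨ψ, hψ'⟩ := hid b L₁ L₂ L₃ h1 h2 h3 hmem
    exact hψ ⟨ψ, hψ'⟩
  obtain ⟨i, hi⟩ : ∃ i, minsT (pol F) b f.u f.w i ≠ 0 := by
    by_contra! hall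
    exact hDb (D_eq_zero_of_mins hτ f hall)
  let N₁ := (tri (pol F) b b f.N)⁻¹ • f.N
  have hN₁ : tri (pol F) b b N₁ = 1 := by rw [tri_smul₃, inv_mul_cancel₀ f.cN]
  let R := MvPolynomial (Fin 4) L
  let φN : R := tri (pol F) X X (cst R N₁)
  let vec : (Fin 4 → L) → (Fin 4 → R) := fun u => φN • cst R u + (-(tri (pol F) X X (cst R u))) • cst R N₁
  have hX : ∀ a : Fin 4 → L, ⇑(aeval a : R →ₐ[L] L) ∘ (X : Fin 4 → R) = a := fun a => funext fun j => aeval_X _ j
  have hcst : ∀ (a z : Fin 4 → L), ⇑(aeval a : R →ₐ[L] L) ∘ cst R z = z := fun a z => funext fun j => by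
    simp [cst, R, MvPolynomial.algebraMap_eq]
  have hφ : ∀ a z : Fin 4 → L, aeval a (tri (pol F) (X : Fin 4 → R) X (cst R z)) = tri (pol F) a a z := fun a z => by
    rw [tri_map, hX, hcst]
  have hvec : ∀ a u : Fin 4 → L, ⇑(aeval a : R →ₐ[L] L) ∘ vec u =
      tri (pol F) a a N₁ • u + (-(tri (pol F) a a u)) • N₁ := fun a u => funext fun j => by
    simp only [vec, φN, Function.comp_apply, Pi.add_apply, Pi.smul_apply, smul_eq_mul, map_add, map_mul, map_neg, hφ]
    rw [show aeval a (cst R u j) = u j from congrFun (hcst a u) j, show aeval a (cst R N₁ j) = N₁ j from congrFun (hcst a N₁) j]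
  let G : R := φN * minsT (pol F) (X : Fin 4 → R) (vec f.u) (vec f.w) i
  have evalG : ∀ a : Fin 4 → L, eval a G = tri (pol F) a a N₁ *
      minsT (pol F) a (tri (pol F) a a N₁ • f.u + (-(tri (pol F) a a f.u)) • N₁)
        (tri (pol F) a a N₁ • f.w + (-(tri (pol F) a a f.w)) • N₁) i := fun a => by
    rw [← aeval_eq_eval]
    show aeval a G = _
    simp only [G, map_mul, φN, hφ, minsT_map, hX, hvec]
  have hGb : eval b G ≠ 0 := by
    rw [evalG, hN₁, f.cu, f.cw]
    simpa using hi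
  refine ⟨G, fun hdvd => ?_, ?_, ?_⟩
  · obtain ⟨c, hc⟩ := hdvd
    exact hGb (by rw [hc, map_mul, hFb, zero_mul])
  · rw [evalG, tri_zero, zero_mul]
  · intro a hFa hG
    rintro ⟨L₁, L₂, L₃, h1, h2, h3, hmem⟩
    rw [evalG] at hG
    obtain ⟨hN, hm⟩ := mul_ne_zero_iff.1 hG
    obtain ⟨ψ, hψa⟩ := hid a L₁ L₂ L₃ h1 h2 h3 hmem
    set u := tri (pol F) a a N₁ • f.u + (-(tri (pol F) a a f.u)) • N₁ with hu
    set w := tri (pol F) a a N₁ • f.w + (-(tri (pol F) a a f.w)) • N₁ with hw
    have hau : tri (pol F) a a u = 0 := by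
      rw [hu]; clear_value N₁; rw [tri_add₃, tri_smul₃, tri_smul₃]; ring
    have haw : tri (pol F) a a w = 0 := by
      rw [hw]; clear_value N₁; rw [tri_add₃, tri_smul₃, tri_smul₃]; ring
    have haa : tri (pol F) a a a = 0 := by rw [← eval_eq_tri F hF, hFa]
    clear_value u w
    refine hm (mins_prod (fun l => ψ l a) (fun l => ψ l u) (fun l => ψ l w) (fun x y z => ?_) i)
    have hz := hψa (x • a + (1 : L) • (y • u + z • w)) (by
      simp only [tri_add₃, tri_smul₃, haa, hau, haw]; ring)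
    rw [eval_eq_tri F hF, cube_add hτ] at hz
    simp only [map_add, map_smul, smul_eq_mul, one_mul, tri_add, tri_add₂, tri_add₃, tri_smul, tri_smul₂, tri_smul₃, haa,
      hau, haw, tri_comm₁ hτ w u, tri_comm₂ hτ _ w u] at hz
    rw [show (∏ l, (x * ψ l a + y * ψ l u + z * ψ l w)) = ∏ l, (x * ψ l a + (y * ψ l u + z * ψ l w)) by
      simp only [add_assoc]]
    linear_combination hz

/-- Constant vectors of polynomials. -/
noncomputable def cst' {B : Type u} [CommRing B] (x : Fin 4 → B) : Fin 4 → Polynomial B := fun i => Polynomial.C (x i)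

theorem tri_cst' {S B : Type u} [CommRing S] [CommRing B] [Algebra S B] (τ : Fin 4 → Fin 4 → Fin 4 → S)
    (x y z : Fin 4 → B) : tri τ (cst' x) (cst' y) (cst' z) = Polynomial.C (tri τ x y z) := by
  simp [tri, cst', map_sum, Algebra.smul_def, Polynomial.algebraMap_apply]

section Line

variable {M : Type u} [Field M]

/-- The substitution of a moving point of a line. -/
noncomputable def subst (v : Fin 4 → M) : MvPolynomial (Fin 4) M →ₐ[M] Polynomial (MvPolynomial (Fin 4) M) :=
  aeval fun i => Polynomial.C (X i) + Polynomial.C (C (v i)) * Polynomial.X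

/-- The automorphism of the line space. -/
noncomputable def substHom (v : Fin 4 → M) :
    Polynomial (MvPolynomial (Fin 4) M) →+* Polynomial (MvPolynomial (Fin 4) M) :=
  Polynomial.eval₂RingHom (subst v).toRingHom Polynomial.X

theorem substHom_substHom (v : Fin 4 → M) (p : Polynomial (MvPolynomial (Fin 4) M)) :
    substHom (-v) (substHom v p) = p := by
  have : (substHom (-v)).comp (substHom v) = RingHom.id _ := by
    refine Polynomial.ringHom_ext (fun q => ?_) ?_
    · have h2 : ((substHom (-v)).comp (substHom v)).comp Polynomial.C =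
          (RingHom.id _).comp (Polynomial.C : MvPolynomial (Fin 4) M →+* _) := by
        refine MvPolynomial.ringHom_ext (fun r => ?_) fun i => ?_
        · simp [substHom, subst]
        · simp [substHom, subst, map_neg]
          ring
      exact RingHom.congr_fun h2 q
    · simp [substHom]
  exact RingHom.congr_fun this p

theorem not_dvd_subst (v : Fin 4 → M) {F G : MvPolynomial (Fin 4) M} (h : ¬ F ∣ G) :
    ¬ substHom v (Polynomial.C F) ∣ substHom v (Polynomial.C G) := by
  intro hd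
  have := _root_.map_dvd (substHom (-v)) hd
  rw [substHom_substHom, substHom_substHom, Polynomial.C_dvd_iff_dvd_coeff] at this
  exact h (by simpa using this 0)

theorem prime_subst (v : Fin 4 → M) {F : MvPolynomial (Fin 4) M} (h : Irreducible F) :
    Prime (substHom v (Polynomial.C F)) := by
  let e : Polynomial (MvPolynomial (Fin 4) M) ≃+* Polynomial (MvPolynomial (Fin 4) M) :=
    RingEquiv.ofRingHom (substHom v) (substHom (-v))
      (RingHom.ext fun p => by simpa using substHom_substHom (-v) p) (RingHom.ext fun p => substHom_substHom v p)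
  exact (MulEquiv.prime_iff (e := e.toMulEquiv)).2 (Polynomial.prime_C_iff.2 h.prime)

theorem substHom_C_eq_tri [CharZero M] (v : Fin 4 → M) {F : MvPolynomial (Fin 4) M} (hF : F.IsHomogeneous 3) :
    substHom v (Polynomial.C F) = tri (pol F) (cst' (X : Fin 4 → MvPolynomial (Fin 4) M) +
      (Polynomial.X : Polynomial (MvPolynomial (Fin 4) M)) • cst' (fun i => C (v i)))
      (cst' (X : Fin 4 → MvPolynomial (Fin 4) M) +
      (Polynomial.X : Polynomial (MvPolynomial (Fin 4) M)) • cst' (fun i => C (v i)))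
      (cst' (X : Fin 4 → MvPolynomial (Fin 4) M) +
      (Polynomial.X : Polynomial (MvPolynomial (Fin 4) M)) • cst' (fun i => C (v i))) := by
  rw [← aeval_eq_tri F hF]
  have e : (fun i => Polynomial.C (X i) + Polynomial.C (C (v i)) * Polynomial.X) =
      (cst' (X : Fin 4 → MvPolynomial (Fin 4) M) +
      (Polynomial.X : Polynomial (MvPolynomial (Fin 4) M)) • cst' (fun i => C (v i))) := by
    funext i
    simp only [Pi.add_apply, Pi.smul_apply, smul_eq_mul, cst']
    ring
  rw [← e]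
  show Polynomial.eval₂ (subst v).toRingHom Polynomial.X (Polynomial.C F) = _
  rw [Polynomial.eval₂_C]
  rfl

end Line

/-- A rational line meeting the surface outside the zeros of a form. -/
theorem exists_line_choice [CharZero k] [CharZero L] (F : MvPolynomial (Fin 4) k) (hF : F.IsHomogeneous 3)
    (hirr : Irreducible (map (algebraMap k L) F)) (G : MvPolynomial (Fin 4) L)
    (hG : ¬ map (algebraMap k L) F ∣ G) :
    ∃ u v : Fin 4 → k, eval v F ≠ 0 ∧ ∀ r : L,
      eval (algebraMap k L ∘ u + r • algebraMap k L ∘ v) (map (algebraMap k L) F) = 0 →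
        eval (algebraMap k L ∘ u + r • algebraMap k L ∘ v) G ≠ 0 := by
  classical
  set FL := map (algebraMap k L) F with hFL
  have hF0 : F ≠ 0 := fun h => hirr.ne_zero (by rw [hFL, h, map_zero])
  obtain ⟨v, hv⟩ : ∃ v, eval v F ≠ 0 := by
    by_contra! hz
    exact hF0 (MvPolynomial.funext fun v => by rw [hz, map_zero])
  set vL := algebraMap k L ∘ v with hvL
  have hFv : eval vL FL = algebraMap k L (eval v F) := by
    rw [hFL, MvPolynomial.eval_map, hvL, ← MvPolynomial.eval₂_comp (f := algebraMap k L) (g := v)]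
  have hFv0 : eval vL FL ≠ 0 := by rw [hFv]; exact (_root_.map_ne_zero _).2 hv
  let A := MvPolynomial (Fin 4) L
  set P := substHom vL (Polynomial.C FL) with hP
  have hPe := substHom_C_eq_tri vL (hF.map (algebraMap k L))
  rw [← hFL, ← hP] at hPe
  rw [cube_add (pol_sym FL)] at hPe
  simp only [tri_cst'] at hPe
  have hlead : tri (pol FL) (fun i => (C (vL i) : A)) (fun i => C (vL i)) (fun i => C (vL i)) = C (eval vL FL) := by
    rw [eval_eq_tri FL (hF.map _), ← MvPolynomial.algebraMap_eq]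
    exact tri_cst (R := A) (pol FL) vL vL vL
  rw [hlead] at hPe
  set d := (eval vL FL)⁻¹ with hd
  set f : Polynomial A := Polynomial.C (C d) * P with hf
  have hdu : IsUnit (Polynomial.C (C d) : Polynomial A) :=
    Polynomial.isUnit_C.2 ((IsUnit.mk0 d (inv_ne_zero hFv0)).map C)
  have hmon : f.Monic := by
    obtain ⟨b₀, b₁, b₂, hb⟩ : ∃ b₀ b₁ b₂ : A, f = Polynomial.C b₀ + Polynomial.C b₁ * Polynomial.X
        + Polynomial.C b₂ * Polynomial.X ^ 2 + Polynomial.X ^ 3 := by
      have h1 : Polynomial.C (C d : A) * Polynomial.C (C (eval vL FL)) = 1 := by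
        rw [← Polynomial.C_mul, ← C_mul, hd, inv_mul_cancel₀ hFv0, map_one, map_one]
      refine ⟨C d * tri (pol FL) (X : Fin 4 → A) X X, C d * 3 * tri (pol FL) (X : Fin 4 → A) X (fun i => C (vL i)),
        C d * 3 * tri (pol FL) (X : Fin 4 → A) (fun i => C (vL i)) (fun i => C (vL i)), ?_⟩
      rw [hf, hPe]
      simp only [map_mul, map_ofNat]
      linear_combination Polynomial.X ^ 3 * h1
    refine Polynomial.monic_of_natDegree_le_of_coeff_eq_one 3 ?_ ?_
    · rw [hb]; compute_degree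
    · rw [hb]
      simp only [Polynomial.coeff_add, Polynomial.coeff_C_mul, Polynomial.coeff_X_pow, Polynomial.coeff_C,
        Polynomial.coeff_X]
      norm_num
  have hfp : Prime f := by
    have h1 := prime_subst vL hirr
    rw [← hP] at h1
    exact (associated_unit_mul_right P _ hdu).prime h1
  set g := substHom vL (Polynomial.C G) with hg
  have hfg : ¬ f ∣ g := fun h => not_dvd_subst vL hG (by rw [← hP]; exact (dvd_mul_left P _).trans h)
  let Kf := FractionRing A
  have hfi : Irreducible (f.map (algebraMap A Kf)) :=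
    (Polynomial.Monic.irreducible_iff_irreducible_map_fraction_map hmon).1 hfp.irreducible
  have hcop : IsCoprime (f.map (algebraMap A Kf)) (g.map (algebraMap A Kf)) :=
    hfi.coprime_iff_not_dvd.2 fun h => hfg ((Polynomial.map_dvd_map _ (IsFractionRing.injective A Kf) hmon).1 h)
  obtain ⟨a, b, hab⟩ := hcop
  obtain ⟨ca, hca, ea⟩ := IsLocalization.integerNormalization_spec (nonZeroDivisors A) a
  obtain ⟨cb, hcb, eb⟩ := IsLocalization.integerNormalization_spec (nonZeroDivisors A) b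
  have hR : Polynomial.C cb * IsLocalization.integerNormalization (nonZeroDivisors A) a * f
      + Polynomial.C ca * IsLocalization.integerNormalization (nonZeroDivisors A) b * g = Polynomial.C (ca * cb) := by
    refine Polynomial.map_injective _ (IsFractionRing.injective A Kf) ?_
    simp only [Polynomial.map_add, Polynomial.map_mul, Polynomial.map_C, ea, eb, Algebra.smul_def,
      Polynomial.algebraMap_apply, map_mul]
    linear_combination (Polynomial.C (algebraMap A Kf ca) * Polynomial.C (algebraMap A Kf cb)) * hab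
  have hr0 : ca * cb ≠ 0 := mul_ne_zero (nonZeroDivisors.ne_zero hca) (nonZeroDivisors.ne_zero hcb)
  obtain ⟨u, hu⟩ : ∃ u : Fin 4 → k, eval (algebraMap k L ∘ u) (ca * cb) ≠ 0 := by
    by_contra! hz
    refine hr0 (MvPolynomial.funext_set (s := fun _ => Set.range (algebraMap k L))
      (fun _ => Set.infinite_range_of_injective (algebraMap k L).injective) fun x hx => ?_)
    choose u hu using fun i => hx i (Set.mem_univ i)
    rw [map_zero, ← show algebraMap k L ∘ u = x from funext hu]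
    exact hz u
  refine ⟨u, v, hv, fun r hr hG0 => hu ?_⟩
  set uL := algebraMap k L ∘ u
  have hev : ∀ H : MvPolynomial (Fin 4) L,
      ((substHom vL (Polynomial.C H)).map (eval uL)).eval r = eval (uL + r • vL) H := by
    intro H
    have h1 : (((Polynomial.evalRingHom r).comp (Polynomial.mapRingHom (eval uL))).comp
        ((substHom vL).comp Polynomial.C)) = eval (uL + r • vL) := by
      refine MvPolynomial.ringHom_ext (fun c => ?_) fun i => ?_
      · simp [substHom, subst]
      · simp [substHom, subst]; ring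
    exact RingHom.congr_fun h1 H
  have h := congrArg (fun q => (q.map (eval uL)).eval r) hR
  simp only [hf, Polynomial.map_add, Polynomial.map_mul, Polynomial.map_C, Polynomial.eval_add, Polynomial.eval_mul,
    Polynomial.eval_C] at h
  rw [hP, hg, hev, hev, hr, hG0] at h
  simpa using h.symm

/-- A cone over an extension is a cone. -/
theorem cone_descend {E : Type u} [Field E] [Algebra k E] (F : MvPolynomial (Fin 4) k) (v : Fin 4 → E) (hv : v ≠ 0)
    (h : ∑ i, v i • pderiv i (map (algebraMap k E) F) = 0) :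
    ∃ w : Fin 4 → k, w ≠ 0 ∧ ∑ i, w i • pderiv i F = 0 := by
  classical
  obtain ⟨j, hj⟩ := Function.ne_iff.1 hv
  obtain ⟨ρ, hρ, -⟩ := Submodule.exists_dual_map_eq_bot_of_notMem (p := (⊥ : Submodule k E)) (x := v j)
    (by simpa using hj) inferInstance
  refine ⟨fun i => ρ (v i), fun h0 => hρ (congrFun h0 j), MvPolynomial.ext _ _ fun m => ?_⟩
  have hm := congrArg (coeff m) h
  simp only [coeff_sum, coeff_smul, pderiv_map, coeff_map, coeff_zero, smul_eq_mul] at hm ⊢
  have := congrArg ρ hm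
  rw [map_sum, map_zero] at this
  rw [← this]
  refine Finset.sum_congr rfl fun i _ => ?_
  rw [mul_comm (v i), ← Algebra.smul_def, map_smul, smul_eq_mul, mul_comm]

/-- Either a rational singular point, or a rational line meeting the surface in good points. -/
theorem exists_choice [CharZero k] [IsGalois k L] [IsAlgClosed L] (F : MvPolynomial (Fin 4) k)
    (hF : F.IsHomogeneous 3) (hirr : Irreducible (map (algebraMap k L) F))
    (hcone : ¬ ∃ v : Fin 4 → k, v ≠ 0 ∧ ∑ i : Fin 4, v i • pderiv i F = 0) :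
    (∃ x : Fin 4 → k, x ≠ 0 ∧ ∀ v, tri (pol F) x x v = 0) ∨
      ∃ u v : Fin 4 → k, eval v F ≠ 0 ∧ ∀ r : L,
        eval (algebraMap k L ∘ u + r • algebraMap k L ∘ v) (map (algebraMap k L) F) = 0 →
          algebraMap k L ∘ u + r • algebraMap k L ∘ v ≠ 0 ∧
          NotT L (map (algebraMap k L) F) (algebraMap k L ∘ u + r • algebraMap k L ∘ v) := by
  haveI : CharZero L := charZero_of_injective_algebraMap (algebraMap k L).injective
  have hplane : NoPlane (map (algebraMap k L) F) :=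
    noPlane (L := L) _ (hF.map _) (by rwa [Algebra.algebraMap_self, MvPolynomial.map_id])
  by_cases hfin : (singClasses (map (algebraMap k L) F)).Finite
  · obtain ⟨G, hG, hG0, hgood⟩ := exists_detector _ (hF.map _) hirr
      (fun ⟨v, hv, hv'⟩ => hcone (cone_descend F v hv hv')) hfin
    obtain ⟨u, v, hv, hline⟩ := exists_line_choice F hF hirr G hG
    exact Or.inr ⟨u, v, hv, fun r hr => ⟨fun h0 => hline r hr (by rw [h0, hG0]), hgood _ hr (hline r hr)⟩⟩
  · exact Or.inl (exists_rational_sing F hF hplane hfin)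

/-- A representation over a field containing a good point. -/
theorem hasPf_of_point [CharZero k] [IsAlgClosed L] {E : Type u} [Field E] [Algebra k E] [CharZero E] [Algebra E L]
    [IsScalarTower k E L] (F : MvPolynomial (Fin 4) k) (hF : F.IsHomogeneous 3)
    (hirr : Irreducible (map (algebraMap k L) F))
    (hcone : ¬ ∃ v : Fin 4 → k, v ≠ 0 ∧ ∑ i : Fin 4, v i • pderiv i F = 0) (a : Fin 4 → E) (ha : a ≠ 0)
    (hFa : eval a (map (algebraMap k E) F) = 0)
    (hT : NotT L (map (algebraMap k L) F) (algebraMap E L ∘ a)) : HasPf (map (algebraMap k E) F) := by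
  have hmm : map (algebraMap E L) (map (algebraMap k E) F) = map (algebraMap k L) F := by
    rw [MvPolynomial.map_map, ← IsScalarTower.algebraMap_eq]
  refine hasPf (hF.map _) (hasFive (L := L) _ (hF.map _) (by rwa [hmm])
    (fun ⟨v, hv, hv'⟩ => hcone (cone_descend F v hv hv')) ha hFa ?_)
  rintro ⟨L₁, L₂, L₃, h1, h2, h3, hmem⟩
  refine hT ⟨L₁, L₂, L₃, h1, h2, h3, ?_⟩
  rw [hmm] at hmem
  rw [Algebra.algebraMap_self, MvPolynomial.map_id]
  have e : ∀ i, algebraMap E L (eval a (pderiv i (map (algebraMap k E) F))) =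
      eval (algebraMap E L ∘ a) (pderiv i (map (algebraMap k L) F)) := fun i => by
    rw [← hmm, pderiv_map (φ := algebraMap E L), MvPolynomial.eval_map, ← MvPolynomial.eval₂_comp]
  simp only [RingHom.id_apply, ← e]
  exact hmem

/-- A singular point is not a T-point. -/
theorem notT_of_sing [CharZero L] (F : MvPolynomial (Fin 4) L) (hF : F.IsHomogeneous 3) (hirr : Irreducible F)
    {a : Fin 4 → L} (ha : ∀ v, tri (pol F) a a v = 0) : NotT L F a := by
  rintro ⟨L₁, L₂, L₃, h1, h2, h3, hmem⟩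
  have hz : ∀ i, eval a (pderiv i F) = 0 := fun i => by
    have h := eval_pderiv_sum F hF a (Pi.single i 1)
    rw [ha, mul_zero, Finset.sum_eq_single i (fun l _ hl => by rw [Pi.single_eq_of_ne hl, zero_mul])
      (fun h => absurd (Finset.mem_univ i) h), Pi.single_eq_same, one_mul] at h
    exact h
  simp only [hz, map_zero, zero_mul, Finset.sum_const_zero, Ideal.span_singleton_eq_bot.2 rfl,
    Submodule.mem_bot, sub_eq_zero, Algebra.algebraMap_self, MvPolynomial.map_id, RingHom.id_apply] at hmem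
  have hunit : ∀ P : MvPolynomial (Fin 4) L, P.IsHomogeneous 1 → P ≠ 0 → ¬ IsUnit P := fun P hP hP0 hu => by
    have := ((MvPolynomial.isUnit_iff_totalDegree_of_isReduced).1 hu).2
    rw [hP.totalDegree hP0] at this
    exact one_ne_zero this
  have h0 := hirr.ne_zero
  rw [hmem] at h0
  obtain ⟨h12, hL3⟩ := mul_ne_zero_iff.1 h0
  obtain ⟨hL1, hL2⟩ := mul_ne_zero_iff.1 h12
  rcases hirr.isUnit_or_isUnit hmem with h | h
  · exact hunit _ h1 hL1 (isUnit_of_mul_isUnit_left h)
  · exact hunit _ h3 hL3 h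

end Groth.Agent.CubicPf
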