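import Groth.Agent.CubicPf.Singular

/-!
# Existence of points which are not T-points
-/

set_option autoImplicit false

universe u v

open MvPolynomial

namespace Groth.Agent.CubicPf

variable {K : Type u} [Field K] [CharZero K]

omit [CharZero K] in
/-- A linear form is given by a functional. -/
theorem exists_dual_of_hom_one {L : MvPolynomial (Fin 4) K} (hL : L.IsHomogeneous 1) :
    ∃ ψ : Module.Dual K (Fin 4 → K), ∀ x, eval x L = ψ x := by
  refine ⟨∑ i, eval 0 (pderiv i L) • LinearMap.proj i, fun x => ?_⟩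
  have h := congrArg (eval x) hL.sum_X_mul_pderiv
  rw [one_smul, map_sum] at h
  rw [← h, LinearMap.sum_apply]
  refine Finset.sum_congr rfl fun i _ => ?_
  have h0 : (pderiv i L).IsHomogeneous 0 := hL.pderiv
  rw [map_mul, eval_X, totalDegree_eq_zero_iff_eq_C.1 (Nat.le_zero.1 h0.totalDegree_le)]
  simp [mul_comm]

/-- A line on the surface. -/
theorem tri_of_line {F : MvPolynomial (Fin 4) K} (hF : F.IsHomogeneous 3) {x y : Fin 4 → K}
    (h : ∀ α β : K, eval (α • x + β • y) F = 0) :
    tri (pol F) x x x = 0 ∧ tri (pol F) x x y = 0 ∧ tri (pol F) x y y = 0 ∧ tri (pol F) y y y = 0 := by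
  have hτ : IsSym (pol F) := pol_sym F
  have e : ∀ r : K, tri (pol F) x x x + 3 * r * tri (pol F) x x y + 3 * r ^ 2 * tri (pol F) x y y
      + r ^ 3 * tri (pol F) y y y = 0 := fun r => by
    rw [← cube_add hτ, ← eval_eq_tri F hF]
    simpa using h 1 r
  have h0 : tri (pol F) x x x = 0 := by simpa using e 0
  have h3 : tri (pol F) y y y = 0 := by
    rw [← eval_eq_tri F hF]
    simpa using h 0 1
  have e1 := e 1
  have e2 := e (-1)
  refine ⟨h0, ?_, ?_, h3⟩
  · linear_combination (e1 - e2) / 6 - h3 / 3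
  · linear_combination (e1 + e2) / 6 - h0 / 3

omit [CharZero K] in
/-- A zero of a binary quadratic form. -/
theorem exists_zero_binary [IsAlgClosed K] (a₀ a₁ a₂ : K) :
    ∃ α β : K, (α ≠ 0 ∨ β ≠ 0) ∧ a₀ * α ^ 2 + a₁ * (α * β) + a₂ * β ^ 2 = 0 := by
  by_cases h : a₂ = 0
  · exact ⟨0, 1, Or.inr one_ne_zero, by simp [h]⟩
  · obtain ⟨r, hr⟩ := IsAlgClosed.exists_root
      (Polynomial.C a₂ * Polynomial.X ^ 2 + Polynomial.C a₁ * Polynomial.X + Polynomial.C a₀)
      (by rw [Polynomial.degree_quadratic h]; norm_num)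
    refine ⟨1, r, Or.inl one_ne_zero, ?_⟩
    simp [Polynomial.IsRoot] at hr
    linear_combination hr

omit [CharZero K] in
/-- A product of three linear functions vanishing on a line. -/
theorem exists_factor_zero [Infinite K] (p q : Fin 3 → K) (h : ∀ α β : K, ∏ i, (α * p i + β * q i) = 0) :
    ∃ i, p i = 0 ∧ q i = 0 := by
  have hP : ∏ i, (Polynomial.C (p i) + Polynomial.X * Polynomial.C (q i)) = 0 := Polynomial.funext fun r => by
    rw [Polynomial.eval_prod, Polynomial.eval_zero, ← h 1 r]
    exact Finset.prod_congr rfl fun i _ => by simp; ring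
  obtain ⟨i, -, hi⟩ := Finset.prod_eq_zero_iff.1 hP
  exact ⟨i, by simpa using congrArg (fun P => P.coeff 0) hi, by simpa using congrArg (fun P => P.coeff 1) hi⟩

/-- The residual conic of a line in a plane through it. -/
theorem det_residual {f₀ f₁ f₂ f₃ f₄ f₅ : K} (p q r : Fin 3 → K) (i : Fin 3) (hp : p i = 0) (hq : q i = 0)
    (h : ∀ α β γ : K, γ * (f₀ * α ^ 2 + f₁ * (α * β) + f₂ * β ^ 2 + f₃ * (α * γ) + f₄ * (β * γ) + f₅ * γ ^ 2) =
      ∏ l, (α * p l + β * q l + γ * r l)) :
    (!![2 * f₀, f₁, f₃; f₁, 2 * f₂, f₄; f₃, f₄, 2 * f₅]).det = 0 := by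
  obtain ⟨j, l, c, hc⟩ : ∃ (j l : Fin 3) (c : K), ∀ α β : K, (∏ t, (α * p t + β * q t + r t)) =
      c * ((α * p j + β * q j + r j) * (α * p l + β * q l + r l)) := by
    fin_cases i
    · exact ⟨1, 2, r 0, fun α β => by simp at hp hq; simp [Fin.prod_univ_three, hp, hq]; ring⟩
    · exact ⟨0, 2, r 1, fun α β => by simp at hp hq; simp [Fin.prod_univ_three, hp, hq]; ring⟩
    · exact ⟨0, 1, r 2, fun α β => by simp at hp hq; simp [Fin.prod_univ_three, hp, hq]; ring⟩
  have e : ∀ α β : K, f₀ * α ^ 2 + f₁ * (α * β) + f₂ * β ^ 2 + f₃ * α + f₄ * β + f₅ =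
      c * ((α * p j + β * q j + r j) * (α * p l + β * q l + r l)) := fun α β => by
    have := h α β 1
    simp only [one_mul, mul_one, one_pow] at this
    rw [this, hc]
  have e00 := e 0 0
  have e10 := e 1 0
  have em0 := e (-1) 0
  have e01 := e 0 1
  have e0m := e 0 (-1)
  have e11 := e 1 1
  simp only [zero_mul, mul_zero, add_zero, zero_add, one_mul, mul_one, one_pow, zero_pow two_ne_zero] at e00 e10 em0 e01 e0m e11
  have g5 : f₅ = c * (r j * r l) := e00
  have g0 : f₀ = c * (p j * p l) := by linear_combination (e10 + em0) / 2 - g5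
  have g3 : f₃ = c * (p j * r l + r j * p l) := by linear_combination (e10 - em0) / 2
  have g2 : f₂ = c * (q j * q l) := by linear_combination (e01 + e0m) / 2 - g5
  have g4 : f₄ = c * (q j * r l + r j * q l) := by linear_combination (e01 - e0m) / 2
  have g1 : f₁ = c * (p j * q l + q j * p l) := by linear_combination e11 - g5 - g0 - g3 - g2 - g4
  subst g0 g1 g2 g3 g4 g5
  rw [Matrix.det_fin_three]
  simp
  ring

/-- All smooth points are T-points. -/
def AllT (F : MvPolynomial (Fin 4) K) : Prop :=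
  ∀ b : Fin 4 → K, eval b F = 0 → (∃ v, tri (pol F) b b v ≠ 0) →
    ∃ ψ : Fin 3 → Module.Dual K (Fin 4 → K), ∀ x, tri (pol F) b b x = 0 → eval x F = ∏ i, ψ i x

theorem exists_line {F : MvPolynomial (Fin 4) K} (hF : F.IsHomogeneous 3) (hall : AllT F) {b : Fin 4 → K}
    (hb : b ≠ 0) (hFb : eval b F = 0) (hsm : ∃ v, tri (pol F) b b v ≠ 0) :
    ∃ y, LinearIndependent K ![b, y] ∧ ∀ α β : K, eval (α • b + β • y) F = 0 := by
  obtain ⟨ψ, hψ⟩ := hall b hFb hsm
  have hbb : tri (pol F) b b b = 0 := by rw [← eval_eq_tri F hF, hFb]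
  obtain ⟨i, hi⟩ : ∃ i, ψ i b = 0 := by
    have h1 := (hψ b hbb).symm
    rw [hFb] at h1
    obtain ⟨i, -, hi⟩ := Finset.prod_eq_zero_iff.1 h1
    exact ⟨i, hi⟩
  let φ : Module.Dual K (Fin 4 → K) :=
    { toFun := fun v => tri (pol F) b b v
      map_add' := fun x y => tri_add₃ b b x y
      map_smul' := fun r x => by rw [tri_smul₃]; rfl }
  let Φ : (Fin 4 → K) →ₗ[K] K × K := φ.prod (ψ i)
  obtain ⟨y, hy, hyb⟩ : ∃ y ∈ LinearMap.ker Φ, y ∉ Submodule.span K {b} := by
    by_contra! hle
    have h1 := Submodule.finrank_mono (show LinearMap.ker Φ ≤ Submodule.span K {b} from hle)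
    rw [finrank_span_singleton hb] at h1
    have h2 := LinearMap.finrank_range_add_finrank_ker Φ
    have h3 := Submodule.finrank_le (LinearMap.range Φ)
    rw [Module.finrank_prod, Module.finrank_self] at h3
    rw [Module.finrank_fin_fun] at h2
    omega
  rw [LinearMap.mem_ker] at hy
  have hy1 : tri (pol F) b b y = 0 := congrArg Prod.fst hy
  have hy2 : ψ i y = 0 := congrArg Prod.snd hy
  refine ⟨y, ?_, fun α β => ?_⟩
  · rw [LinearIndependent.pair_iff' hb]
    exact fun r hr => hyb (Submodule.mem_span_singleton.2 ⟨r, hr⟩)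
  · rw [hψ _ (by rw [tri_add₃, tri_smul₃, tri_smul₃, hbb, hy1]; ring)]
    exact Finset.prod_eq_zero (Finset.mem_univ i) (by simp [hi, hy2])

set_option maxHeartbeats 1000000 in
/-- Every line on the surface contains a singular point. -/
theorem exists_sing_on_line [IsAlgClosed K] {F : MvPolynomial (Fin 4) K} (hF : F.IsHomogeneous 3) (hall : AllT F)
    (hfin : (singClasses F).Finite) {x y : Fin 4 → K} (hxy : LinearIndependent K ![x, y])
    (h : ∀ α β : K, eval (α • x + β • y) F = 0) :
    ∃ α β : K, (α ≠ 0 ∨ β ≠ 0) ∧ IsSing F (α • x + β • y) := by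
  classical
  have hτ : IsSym (pol F) := pol_sym F
  obtain ⟨hxxx, hxxy, hxyy, hyyy⟩ := tri_of_line hF h
  have hne : ∀ α β : K, α • x + β • y = 0 → α = 0 ∧ β = 0 := LinearIndependent.pair_iff.1 hxy
  obtain ⟨e₂, h2⟩ : ∃ e₂, LinearIndependent K (Fin.snoc ![x, y] e₂ : Fin 3 → (Fin 4 → K)) := by
    obtain ⟨l, hl, hlx⟩ := exists_dual_of_linearIndependent (n := 2) (by norm_num) ![x, y]
    obtain ⟨z, hz⟩ := exists_eq_one hl
    refine ⟨z, linearIndependent_finSnoc.2 ⟨hxy, fun hm => ?_⟩⟩
    have := (Submodule.span_le.2 (show Set.range ![x, y] ⊆ LinearMap.ker l by rintro _ ⟨i, rfl⟩; exact hlx i)) hm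
    rw [LinearMap.mem_ker, hz] at this
    exact one_ne_zero this
  obtain ⟨e₃, h3⟩ : ∃ e₃, LinearIndependent K (Fin.snoc (Fin.snoc ![x, y] e₂) e₃ : Fin 4 → (Fin 4 → K)) := by
    obtain ⟨l, hl, hlx⟩ := exists_dual_of_linearIndependent (n := 3) (by norm_num) (Fin.snoc ![x, y] e₂)
    obtain ⟨z, hz⟩ := exists_eq_one hl
    refine ⟨z, linearIndependent_finSnoc.2 ⟨h2, fun hm => ?_⟩⟩
    have := (Submodule.span_le.2 (show Set.range (Fin.snoc ![x, y] e₂ : Fin 3 → (Fin 4 → K)) ⊆ LinearMap.ker l by
      rintro _ ⟨i, rfl⟩; exact hlx i)) hm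
    rw [LinearMap.mem_ker, hz] at this
    exact one_ne_zero this
  let Bs := basisOfLinearIndependentOfCardEqFinrank h3 (by simp)
  have hspan : ∀ v, ∃ a b c d : K, v = a • x + b • y + c • e₂ + d • e₃ := fun v => by
    refine ⟨Bs.repr v 0, Bs.repr v 1, Bs.repr v 2, Bs.repr v 3, ?_⟩
    conv_lhs => rw [← Bs.sum_repr v]
    rw [show (∑ i, Bs.repr v i • Bs i) = ∑ i : Fin 4, Bs.repr v i • Bs i from rfl, Fin.sum_univ_four]
    simp [Bs, Fin.snoc]
  have hcoord : ∀ a b c d : K, a • x + b • y + c • e₂ + d • e₃ = 0 → a = 0 ∧ b = 0 ∧ c = 0 ∧ d = 0 := by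
    intro a b c d h0
    have h1 := Fintype.linearIndependent_iff.1 h3 ![a, b, c, d] (by
      rw [Fin.sum_univ_four]; simpa [Fin.snoc] using h0)
    exact ⟨h1 0, h1 1, h1 2, h1 3⟩
  have hsing : ∀ v, tri (pol F) v v x = 0 → tri (pol F) v v y = 0 → tri (pol F) v v e₂ = 0 →
      tri (pol F) v v e₃ = 0 → IsSing F v := by
    intro v hvx hvy hv2 hv3 z
    obtain ⟨a, b, c, d, rfl⟩ := hspan z
    simp only [tri_add₃, tri_smul₃, hvx, hvy, hv2, hv3, mul_zero, add_zero]
  have huu : ∀ α β : K, ∀ v, tri (pol F) (α • x + β • y) (α • x + β • y) v =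
      tri (pol F) x x v * α ^ 2 + 2 * tri (pol F) x y v * (α * β) + tri (pol F) y y v * β ^ 2 := by
    intro α β v
    simp only [tri_add, tri_add₂, tri_smul, tri_smul₂, tri_comm₁ hτ y x]
    ring
  have hxy' : tri (pol F) x y x = 0 := by rw [tri_comm₂ hτ, hxxy]
  have hyyx : tri (pol F) y y x = 0 := by rw [tri_comm₂ hτ, tri_comm₁ hτ, hxyy]
  have huux : ∀ α β : K, tri (pol F) (α • x + β • y) (α • x + β • y) x = 0 := fun α β => by
    rw [huu, hxxx, hxy', hyyx]; ring
  have huuy : ∀ α β : K, tri (pol F) (α • x + β • y) (α • x + β • y) y = 0 := fun α β => by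
    rw [huu, hxxy, hxyy, hyyy]; ring
  let pA : Polynomial K := Polynomial.C (tri (pol F) x x e₂) + Polynomial.C (2 * tri (pol F) x y e₂) * Polynomial.X
    + Polynomial.C (tri (pol F) y y e₂) * Polynomial.X ^ 2
  let pB : Polynomial K := Polynomial.C (tri (pol F) x x e₃) + Polynomial.C (2 * tri (pol F) x y e₃) * Polynomial.X
    + Polynomial.C (tri (pol F) y y e₃) * Polynomial.X ^ 2
  have hcoef : ∀ γ δ : K, Polynomial.C γ * pA + Polynomial.C δ * pB = 0 →
      γ * tri (pol F) x x e₂ + δ * tri (pol F) x x e₃ = 0 ∧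
      γ * (2 * tri (pol F) x y e₂) + δ * (2 * tri (pol F) x y e₃) = 0 ∧
      γ * tri (pol F) y y e₂ + δ * tri (pol F) y y e₃ = 0 := by
    intro γ δ h0
    have h0' : Polynomial.C (γ * tri (pol F) x x e₂ + δ * tri (pol F) x x e₃)
        + Polynomial.C (γ * (2 * tri (pol F) x y e₂) + δ * (2 * tri (pol F) x y e₃)) * Polynomial.X
        + Polynomial.C (γ * tri (pol F) y y e₂ + δ * tri (pol F) y y e₃) * Polynomial.X ^ 2 = 0 := by
      simp only [pA, pB, map_add, map_mul] at h0 ⊢
      linear_combination h0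
    have c0 := congrArg (fun P => P.coeff 0) h0'
    have c1 := congrArg (fun P => P.coeff 1) h0'
    have c2 := congrArg (fun P => P.coeff 2) h0'
    simp only [Polynomial.coeff_add, Polynomial.coeff_C_mul, Polynomial.coeff_X_pow, Polynomial.coeff_C,
      Polynomial.coeff_X, Polynomial.coeff_zero, Nat.reduceEqDiff, OfNat.ofNat_ne_zero, OfNat.ofNat_ne_one,
      OfNat.one_ne_ofNat, OfNat.zero_ne_ofNat, one_ne_zero, zero_ne_one, if_true, if_false, mul_one, mul_zero,
      add_zero, zero_add] at c0 c1 c2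
    exact ⟨c0, c1, c2⟩
  by_cases hdep : ∃ γ δ : K, (γ ≠ 0 ∨ δ ≠ 0) ∧ Polynomial.C γ * pA + Polynomial.C δ * pB = 0
  · obtain ⟨γ, δ, hgd, h0⟩ := hdep
    obtain ⟨g0, g1, g2⟩ := hcoef γ δ h0
    by_cases hδ : δ = 0
    · obtain ⟨α, β, hab, hz⟩ := exists_zero_binary (tri (pol F) x x e₃) (2 * tri (pol F) x y e₃) (tri (pol F) y y e₃)
      refine ⟨α, β, hab, hsing _ (huux α β) (huuy α β) ?_ ?_⟩
      · have hγ : γ ≠ 0 := hgd.resolve_right (not_not.2 hδ)
        rw [hδ, zero_mul, add_zero, mul_eq_zero] at g0 g1 g2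
        rw [huu, g0.resolve_left hγ, g1.resolve_left hγ, g2.resolve_left hγ]; ring
      · rw [huu]; linear_combination hz
    · obtain ⟨α, β, hab, hz⟩ := exists_zero_binary (tri (pol F) x x e₂) (2 * tri (pol F) x y e₂) (tri (pol F) y y e₂)
      refine ⟨α, β, hab, hsing _ (huux α β) (huuy α β) ?_ ?_⟩
      · rw [huu]; linear_combination hz
      · rw [huu]
        refine (mul_eq_zero.1 ?_).resolve_left hδ
        linear_combination α ^ 2 * g0 + (α * β) * g1 + β ^ 2 * g2 - γ * hz
  push Not at hdep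
  have hB0 : pB ≠ 0 := fun h0 => hdep 0 1 (Or.inr one_ne_zero) (by rw [h0, map_zero]; simp)
  let good : Set K := {t | pB.eval t ≠ 0}
  let sv : K → K := fun t => -(pA.eval t) / pB.eval t
  have hgood : good.Infinite := by
    refine Set.Infinite.mono ?_ (Polynomial.finite_setOfPred_isRoot hB0).infinite_compl
    intro t ht
    simpa [good] using ht
  have himg : (sv '' good).Infinite := by
    intro hfin'
    obtain ⟨s, -, hs⟩ : ∃ s ∈ sv '' good, {t | t ∈ good ∧ sv t = s}.Infinite := by
      by_contra hall'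
      push Not at hall'
      refine hgood ((hfin'.biUnion fun c hc => hall' c hc).subset fun t ht => ?_)
      exact Set.mem_biUnion ⟨t, ht, rfl⟩ ⟨ht, rfl⟩
    refine hdep 1 s (Or.inl one_ne_zero) (Polynomial.eq_zero_of_infinite_isRoot _ (hs.mono fun t ht => ?_))
    obtain ⟨htg, rfl⟩ := ht
    simp only [good, Set.mem_ofPred_eq] at htg
    simp only [sv, Set.mem_ofPred_eq, Polynomial.IsRoot, Polynomial.eval_add, Polynomial.eval_mul, Polynomial.eval_C]
    field_simp
    ring
  let f : Fin 4 → Polynomial K := cst (Polynomial K) e₂ + (Polynomial.X : Polynomial K) • cst (Polynomial K) e₃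
  let M : Matrix (Fin 3) (Fin 3) (Polynomial K) :=
    !![6 * tri (pol F) (cst _ x) (cst _ x) f, 6 * tri (pol F) (cst _ x) (cst _ y) f, 3 * tri (pol F) (cst _ x) f f;
      6 * tri (pol F) (cst _ x) (cst _ y) f, 6 * tri (pol F) (cst _ y) (cst _ y) f, 3 * tri (pol F) (cst _ y) f f;
      3 * tri (pol F) (cst _ x) f f, 3 * tri (pol F) (cst _ y) f f, 2 * tri (pol F) f f f]
  have hM : M.det = 0 := by
    refine Polynomial.eq_zero_of_infinite_isRoot _ (himg.mono fun s hs => ?_)
    obtain ⟨t, ht, rfl⟩ := hs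
    simp only [good, Set.mem_ofPred_eq] at ht
    set s := sv t with hs
    set b := (1 : K) • x + t • y with hb
    have hFb : eval b F = 0 := h 1 t
    have hB : tri (pol F) b b e₃ = pB.eval t := by rw [hb, huu]; simp [pB]
    have hA : tri (pol F) b b e₂ = pA.eval t := by rw [hb, huu]; simp [pA]
    obtain ⟨ψ, hψ⟩ := hall b hFb ⟨e₃, by rwa [hB]⟩
    have hs0 : tri (pol F) b b (e₂ + s • e₃) = 0 := by
      rw [tri_add₃, tri_smul₃, hA, hB, hs]
      simp only [sv]
      field_simp
      ring
    obtain ⟨w, hw⟩ : ∃ w, w = e₂ + s • e₃ := ⟨_, rfl⟩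
    rw [← hw] at hs0
    have hbx : tri (pol F) b b x = 0 := huux 1 t
    have hby : tri (pol F) b b y = 0 := huuy 1 t
    have hprod : ∀ α β γ : K, eval (α • x + β • y + γ • w) F = ∏ i, (α * ψ i x + β * ψ i y + γ * ψ i w) := fun α β γ => by
      rw [hψ _ (by simp only [tri_add₃, tri_smul₃, hbx, hby, hs0]; ring)]
      exact Finset.prod_congr rfl fun i _ => by simp
    obtain ⟨i, hp, hq⟩ := exists_factor_zero (fun i => ψ i x) (fun i => ψ i y) fun α β => by
      have := hprod α β 0
      simp only [zero_smul, add_zero, zero_mul, h α β] at this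
      exact this.symm
    have hdet := det_residual (f₀ := 3 * tri (pol F) x x w) (f₁ := 6 * tri (pol F) x y w) (f₂ := 3 * tri (pol F) y y w)
      (f₃ := 3 * tri (pol F) x w w) (f₄ := 3 * tri (pol F) y w w) (f₅ := tri (pol F) w w w) _ _ (fun i => ψ i w) i hp hq
      fun α β γ => by
        rw [← hprod, eval_eq_tri F hF, cube_add hτ, ← eval_eq_tri F hF (α • x + β • y), h α β]
        simp only [tri_add, tri_add₂, tri_smul, tri_smul₂, tri_comm₁ hτ y x]
        ring
    have hev : ∀ z : Fin 4 → K, (fun j => (cst (Polynomial K) z j).eval s) = z := fun z => eval_cst s z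
    have hfe : (fun j => (f j).eval s) = w := by
      funext j; simp [hw, f, cst]; ring
    show M.det.eval s = 0
    rw [← hdet, Matrix.det_fin_three, Matrix.det_fin_three]
    simp [M, eval_tri, hev, hfe]
    ring
  obtain ⟨σ, hσ0, hσ⟩ := Matrix.exists_mulVec_eq_zero_iff.2 hM
  let P : Fin 4 → Polynomial K := σ 0 • cst (Polynomial K) x + σ 1 • cst (Polynomial K) y + σ 2 • f
  have hc0 : ∀ a b c : Fin 4 → K, tri (pol F) a b c = 0 →
      tri (pol F) (cst (Polynomial K) a) (cst (Polynomial K) b) (cst (Polynomial K) c) = 0 :=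
    fun a b c h0 => by rw [tri_cst, h0, map_zero]
  have E0 := congrFun hσ 0
  have E1 := congrFun hσ 1
  have E2 := congrFun hσ 2
  simp [M, Matrix.mulVec, dotProduct, Fin.sum_univ_three] at E0 E1 E2
  have hPx : tri (pol F) P P (cst (Polynomial K) x) = 0 := by
    simp only [P, tri_add, tri_add₂, tri_smul, tri_smul₂, hc0 _ _ _ hxxx, hc0 _ _ _ hxy', hc0 _ _ _ hyyx,
      tri_comm₁ hτ (cst (Polynomial K) y) (cst (Polynomial K) x), tri_comm₁ hτ f (cst (Polynomial K) x),
      tri_comm₁ hτ f (cst (Polynomial K) y), tri_comm₂ hτ _ f (cst (Polynomial K) x)]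
    refine mul_left_cancel₀ (show (3 : Polynomial K) ≠ 0 by norm_num) ?_
    linear_combination σ 2 * E0
  have hPy : tri (pol F) P P (cst (Polynomial K) y) = 0 := by
    simp only [P, tri_add, tri_add₂, tri_smul, tri_smul₂, hc0 _ _ _ hxxy, hc0 _ _ _ hxyy, hc0 _ _ _ hyyy,
      tri_comm₁ hτ (cst (Polynomial K) y) (cst (Polynomial K) x), tri_comm₁ hτ f (cst (Polynomial K) x),
      tri_comm₁ hτ f (cst (Polynomial K) y), tri_comm₂ hτ _ f (cst (Polynomial K) y)]
    refine mul_left_cancel₀ (show (3 : Polynomial K) ≠ 0 by norm_num) ?_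
    linear_combination σ 2 * E1
  have hff : tri (pol F) P P f = 0 := by
    refine mul_left_cancel₀ (show (6 : Polynomial K) ≠ 0 by norm_num) ?_
    simp only [P, tri_add, tri_add₂, tri_smul, tri_smul₂, tri_comm₁ hτ (cst (Polynomial K) y) (cst (Polynomial K) x),
      tri_comm₁ hτ f (cst (Polynomial K) x), tri_comm₁ hτ f (cst (Polynomial K) y)]
    linear_combination σ 0 * E0 + σ 1 * E1 + 3 * σ 2 * E2
  have hdf : Polynomial.derivative ∘ f = cst (Polynomial K) e₃ := by
    funext j; simp [f, cst]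
  have hdc : ∀ z : Fin 4 → K, Polynomial.derivative ∘ cst (Polynomial K) z = 0 := fun z => by
    funext j; simp [cst]
  have hz2 : ∀ a b : Fin 4 → Polynomial K, tri (pol F) a 0 b = 0 := fun a b => by rw [tri_comm₁ hτ, tri_zero]
  have hz3 : ∀ a b : Fin 4 → Polynomial K, tri (pol F) a b 0 = 0 := fun a b => by rw [tri_comm₂ hτ, hz2]
  have dn : ∀ n : ℕ, Polynomial.derivative (n : Polynomial K) = 0 := fun n => Polynomial.derivative_natCast
  have dE0 := congrArg (fun z => Polynomial.derivative z) E0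
  have dE1 := congrArg (fun z => Polynomial.derivative z) E1
  have dE2 := congrArg (fun z => Polynomial.derivative z) E2
  simp only [map_add, Polynomial.derivative_mul, Polynomial.derivative_zero, derivative_tri, hdf, hdc,
    Polynomial.derivative_ofNat, tri_zero, hz2, hz3, zero_mul, zero_add, add_zero] at dE0 dE1 dE2
  have hP3 : tri (pol F) P P (cst (Polynomial K) e₃) = 0 := by
    refine mul_left_cancel₀ (show (6 : Polynomial K) ≠ 0 by norm_num) ?_
    simp only [P, tri_add, tri_add₂, tri_smul, tri_smul₂, tri_comm₁ hτ (cst (Polynomial K) y) (cst (Polynomial K) x),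
      tri_comm₁ hτ f (cst (Polynomial K) x), tri_comm₁ hτ f (cst (Polynomial K) y)]
    simp only [tri_comm₁ hτ (cst (Polynomial K) e₃) f, tri_comm₂ hτ _ (cst (Polynomial K) e₃) f] at dE0 dE1 dE2
    linear_combination σ 0 * dE0 + σ 1 * dE1 + σ 2 * dE2 - Polynomial.derivative (σ 0) * E0
      - Polynomial.derivative (σ 1) * E1 - Polynomial.derivative (σ 2) * E2
  let Pt : K → (Fin 4 → K) := fun s => (σ 0).eval s • x + (σ 1).eval s • y + (σ 2).eval s • (e₂ + s • e₃)
  have hPt : ∀ s, IsSing F (Pt s) := fun s => by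
    have e : (fun j => (P j).eval s) = Pt s := by
      funext j
      simp only [P, Pt, f, cst, Pi.add_apply, Pi.smul_apply, smul_eq_mul, Polynomial.eval_add, Polynomial.eval_mul,
        Polynomial.eval_X, Polynomial.algebraMap_eq, Polynomial.eval_C]
    have ev : ∀ z : Fin 4 → Polynomial K, tri (pol F) P P z = 0 →
        tri (pol F) (Pt s) (Pt s) (fun j => (z j).eval s) = 0 := fun z hz => by
      rw [← e, ← eval_tri, hz, Polynomial.eval_zero]
    have hv3 : tri (pol F) (Pt s) (Pt s) e₃ = 0 := by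
      have := ev _ hP3; rwa [show (fun j => (cst (Polynomial K) e₃ j).eval s) = e₃ from eval_cst s e₃] at this
    have hv2 : tri (pol F) (Pt s) (Pt s) e₂ = 0 := by
      have := ev _ hff
      rw [show (fun j => (f j).eval s) = e₂ + s • e₃ by funext j; simp [f, cst]; ring, tri_add₃, tri_smul₃, hv3,
        mul_zero, add_zero] at this
      exact this
    refine hsing _ ?_ ?_ hv2 hv3
    · have := ev _ hPx; rwa [show (fun j => (cst (Polynomial K) x j).eval s) = x from eval_cst s x] at this
    · have := ev _ hPy; rwa [show (fun j => (cst (Polynomial K) y j).eval s) = y from eval_cst s y] at this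
  by_cases hσ2 : σ 2 = 0
  · obtain ⟨i, hi⟩ := Function.ne_iff.1 hσ0
    obtain ⟨s, hs⟩ : ∃ s, (σ i).eval s ≠ 0 := by
      by_contra! hz
      exact hi (Polynomial.funext fun s => by simpa using hz s)
    refine ⟨(σ 0).eval s, (σ 1).eval s, ?_, ?_⟩
    · fin_cases i
      · exact Or.inl hs
      · exact Or.inr hs
      · exact absurd (by rw [show σ ⟨2, by norm_num⟩ = σ 2 from rfl, hσ2]; simp) hs
    · simpa [Pt, hσ2] using hPt s
  · exfalso
    have hS : {s : K | (σ 2).eval s ≠ 0}.Infinite :=
      (Polynomial.finite_setOfPred_isRoot hσ2).infinite_compl.mono fun s hs => by simpa using hs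
    refine hS (Set.Finite.of_finite_image (f := fun s => Submodule.span K {Pt s}) (hfin.subset ?_) ?_)
    · rintro _ ⟨s, hs, rfl⟩
      refine ⟨Pt s, fun h0 => hs ?_, hPt s, rfl⟩
      exact (hcoord ((σ 0).eval s) ((σ 1).eval s) ((σ 2).eval s) ((σ 2).eval s * s)
        (by rw [← h0]; simp only [Pt]; module)).2.2.1
    · intro s hs s' hs' heq
      have heq' : Submodule.span K {Pt s} = Submodule.span K {Pt s'} := heq
      obtain ⟨r, hr⟩ := Submodule.mem_span_singleton.1
        (show Pt s ∈ Submodule.span K {Pt s'} by rw [← heq']; exact Submodule.mem_span_singleton_self _)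
      obtain ⟨-, -, c2, c3⟩ := hcoord (r * (σ 0).eval s' - (σ 0).eval s) (r * (σ 1).eval s' - (σ 1).eval s)
        (r * (σ 2).eval s' - (σ 2).eval s) (r * ((σ 2).eval s' * s') - (σ 2).eval s * s) (by
          have h0 : r • Pt s' - Pt s = 0 := sub_eq_zero.2 hr
          rw [← h0]; simp only [Pt]; module)
      simp only [Set.mem_ofPred_eq] at hs
      refine mul_left_cancel₀ hs ?_
      linear_combination s' * c2 - c3

/-- A surface with finitely many singular points has a point which is not a T-point. -/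
theorem not_allT [IsAlgClosed K] {F : MvPolynomial (Fin 4) K} (hF : F.IsHomogeneous 3) (hirr : Irreducible F)
    (hcone : ¬ ∃ v : Fin 4 → K, v ≠ 0 ∧ ∑ i : Fin 4, v i • pderiv i F = 0) (hfin : (singClasses F).Finite) :
    ¬ AllT F := by
  classical
  intro hall
  have hτ : IsSym (pol F) := pol_sym F
  let R := MvPolynomial (Fin 4) K
  have hrep : ∀ U : hfin.toFinset, ∃ x : Fin 4 → K, x ≠ 0 ∧ IsSing F x ∧ (U : Submodule K (Fin 4 → K)) = Submodule.span K {x} :=
    fun U => hfin.mem_toFinset.1 U.2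
  choose rep hrep0 hreps hrepU using hrep
  let Q : hfin.toFinset → R := fun U => tri (pol F) (cst R (rep U)) X X
  have evalQ : ∀ U v, eval v (Q U) = tri (pol F) (rep U) v v := fun U v => by
    rw [← aeval_eq_eval, tri_map]
    congr 1 <;> funext j <;> first
      | (simp [cst]; done)
      | exact MvPolynomial.eval_C (f := v) _
  have hzero : ∀ x : Fin 4 → K, eval x F = 0 → eval x (∏ U, Q U) = 0 := by
    intro x hx
    rw [map_prod]
    obtain ⟨z, hz0, hz, hzx⟩ : ∃ z, z ≠ 0 ∧ IsSing F z ∧ tri (pol F) z x x = 0 := by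
      by_cases hsx : IsSing F x
      · by_cases hx0 : x = 0
        · obtain ⟨U⟩ : Nonempty hfin.toFinset := by
            by_contra hemp
            rw [not_nonempty_iff] at hemp
            obtain ⟨v, hv, hFv⟩ := noPlane (L := K) F hF (by rwa [Algebra.algebraMap_self, MvPolynomial.map_id]) (LinearMap.proj 0) (fun h => by
              have := LinearMap.congr_fun h (Pi.single 0 1)
              simp at this)
            obtain ⟨w, hw, hFw⟩ : ∃ w : Fin 4 → K, w ≠ 0 ∧ eval w F = 0 := by
              obtain ⟨u, hu⟩ : ∃ u : Fin 4 → K, LinearIndependent K ![v, u] := by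
                obtain ⟨l, hl, hlv⟩ := exists_dual_of_linearIndependent (n := 1) (by norm_num) ![v]
                obtain ⟨u, hu⟩ := exists_eq_one hl
                refine ⟨u, ?_⟩
                have hv0 : v ≠ 0 := fun h => hFv (by rw [h, eval_eq_tri F hF, tri_zero])
                rw [LinearIndependent.pair_iff' hv0]
                intro r hr
                have := congrArg l hr
                rw [map_smul, show l v = 0 from hlv 0, smul_zero, hu] at this
                exact zero_ne_one this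
              let p : Polynomial K := aeval (cst (Polynomial K) u + (Polynomial.X : Polynomial K) • cst (Polynomial K) v) F
              have hp : p = Polynomial.C (tri (pol F) u u u) + Polynomial.C (3 * tri (pol F) u u v) * Polynomial.X
                  + Polynomial.C (3 * tri (pol F) u v v) * Polynomial.X ^ 2 + Polynomial.C (tri (pol F) v v v) * Polynomial.X ^ 3 := by
                simp only [p, aeval_eq_tri F hF, cube_add hτ, tri_cst, Polynomial.algebraMap_eq, map_mul, map_ofNat]
                ring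
              have hdeg : p.degree ≠ 0 := by
                intro hd
                have h3 := Polynomial.coeff_eq_zero_of_degree_lt (show p.degree < (3 : ℕ) by rw [hd]; norm_num)
                rw [hp] at h3
                simp only [Polynomial.coeff_add, Polynomial.coeff_C_mul, Polynomial.coeff_X_pow, Polynomial.coeff_C,
                  Polynomial.coeff_X, Nat.reduceEqDiff, OfNat.ofNat_ne_zero, OfNat.ofNat_ne_one, OfNat.one_ne_ofNat,
                  if_true, if_false, mul_one, mul_zero, add_zero, zero_add] at h3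
                exact hFv (by rw [eval_eq_tri F hF, h3])
              obtain ⟨r, hr⟩ := IsAlgClosed.exists_root p hdeg
              refine ⟨u + r • v, fun h0 => ?_, ?_⟩
              · have := (LinearIndependent.pair_iff.1 hu r 1 (by rw [one_smul, add_comm]; exact h0)).2
                exact one_ne_zero this
              · have h1 : (eval (u + r • v) F) = p.eval r := by
                  simp only [hp, eval_eq_tri F hF, cube_add hτ, Polynomial.eval_add, Polynomial.eval_mul,
                    Polynomial.eval_C, Polynomial.eval_X, Polynomial.eval_pow]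
                  ring
                rw [h1]; exact hr
            by_cases hsw : IsSing F w
            · exact hemp.false ⟨_, hfin.mem_toFinset.2 ⟨w, hw, hsw, rfl⟩⟩
            · simp only [IsSing, not_forall] at hsw
              obtain ⟨y, hli, hline⟩ := exists_line hF hall hw hFw hsw
              obtain ⟨α, β, hab, hs⟩ := exists_sing_on_line hF hall hfin hli hline
              refine hemp.false ⟨_, hfin.mem_toFinset.2 ⟨α • w + β • y, fun h0 => ?_, hs, rfl⟩⟩
              obtain ⟨h1, h2⟩ := LinearIndependent.pair_iff.1 hli α β h0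
              rcases hab with h | h <;> contradiction
          exact ⟨rep U, hrep0 U, hreps U, by rw [hx0, tri_comm₁ hτ, tri_zero]⟩
        · exact ⟨x, hx0, hsx, hsx x⟩
      · simp only [IsSing, not_forall] at hsx
        have hx0 : x ≠ 0 := fun h => by
          obtain ⟨v, hv⟩ := hsx
          exact hv (by rw [h, tri_zero])
        obtain ⟨y, hli, hline⟩ := exists_line hF hall hx0 hx hsx
        obtain ⟨α, β, hab, hs⟩ := exists_sing_on_line hF hall hfin hli hline
        refine ⟨α • x + β • y, fun h0 => ?_, hs, ?_⟩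
        · obtain ⟨h1, h2⟩ := LinearIndependent.pair_iff.1 hli α β h0
          rcases hab with h | h <;> contradiction
        · obtain ⟨h1, h2, -, -⟩ := tri_of_line hF hline
          rw [tri_add, tri_smul, tri_smul, h1, tri_comm₁ hτ, tri_comm₂ hτ, h2]
          ring
    have hmem : Submodule.span K {z} ∈ hfin.toFinset := hfin.mem_toFinset.2 ⟨z, hz0, hz, rfl⟩
    refine Finset.prod_eq_zero (Finset.mem_univ ⟨_, hmem⟩) ?_
    rw [evalQ]
    obtain ⟨r, hr⟩ := Submodule.mem_span_singleton.1
      (show rep ⟨_, hmem⟩ ∈ Submodule.span K {z} from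
        (SetLike.ext_iff.1 (hrepU ⟨_, hmem⟩) _).2 (Submodule.mem_span_singleton_self _))
    rw [← hr, tri_smul, hzx, mul_zero]
  have hprime : Prime F := hirr.prime
  haveI hP : (Ideal.span {F}).IsPrime := (Ideal.span_singleton_prime hirr.ne_zero).2 hprime
  have hdvd : F ∣ ∏ U, Q U := by
    rw [← Ideal.mem_span_singleton, ← hP.radical, ← vanishingIdeal_zeroLocus_eq_radical (k := K) (K := K)]
    intro x hx
    rw [aeval_eq_eval]
    refine hzero x ?_
    have := hx F (Ideal.mem_span_singleton_self F)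
    rwa [aeval_eq_eval] at this
  obtain ⟨U, -, hU⟩ := hprime.exists_mem_finset_dvd hdvd
  have hQh : (Q U).IsHomogeneous 2 := by
    refine IsHomogeneous.sum _ _ _ fun i _ => IsHomogeneous.sum _ _ _ fun j _ => IsHomogeneous.sum _ _ _ fun l _ => ?_
    rw [smul_eq_C_mul]
    exact IsHomogeneous.C_mul (((isHomogeneous_C _ _).mul (isHomogeneous_X _ _)).mul (isHomogeneous_X _ _)) _
  have hQ0 : Q U = 0 := by
    by_contra hne
    obtain ⟨G, hG⟩ := hU
    have hG0 : G ≠ 0 := fun h => hne (by rw [hG, h, mul_zero])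
    have hd := congrArg MvPolynomial.totalDegree hG
    rw [hQh.totalDegree hne, MvPolynomial.totalDegree_mul_of_isDomain hirr.ne_zero hG0, hF.totalDegree hirr.ne_zero] at hd
    omega
  refine hcone ⟨rep U, hrep0 U, MvPolynomial.funext fun v => ?_⟩
  rw [map_sum, map_zero]
  simp only [smul_eval]
  rw [eval_pderiv_sum F hF, tri_comm₂ hτ, tri_comm₁ hτ, ← evalQ, hQ0, map_zero, mul_zero]

end Groth.Agent.CubicPf
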