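import Groth.Agent.CubicPf.Points

/-!
# Five points in general position and linear Pfaffian representations
-/

set_option autoImplicit false

universe u v

open MvPolynomial

namespace Groth.Agent.CubicPf

variable {K : Type u} [Field K] [CharZero K]

/-- Five zeros of a form in general position. -/
def HasFive (F : MvPolynomial (Fin 4) K) (a : Fin 4 → K) : Prop :=
  ∃ p : Fin 5 → (Fin 4 → K), p 0 = a ∧ (∀ j, eval (p j) F = 0) ∧
    ∀ j : Fin 5, LinearIndependent K (fun i : Fin 4 => p (j.succAbove i))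

omit [CharZero K] in
theorem exists_dual_of_linearIndependent {n : ℕ} (hn : n < 4) (x : Fin n → (Fin 4 → K)) :
    ∃ l : Module.Dual K (Fin 4 → K), l ≠ 0 ∧ ∀ i, l (x i) = 0 := by
  set S := Submodule.span K (Set.range x)
  have hS : Module.finrank K S < 4 := lt_of_le_of_lt ((finrank_range_le_card x).trans (by simp)) hn
  obtain ⟨z, hz⟩ : ∃ z, z ∉ S := by
    by_contra! hall
    have : S = ⊤ := eq_top_iff.2 fun z _ => hall z
    rw [this, finrank_top, Module.finrank_fin_fun] at hS
    omega
  obtain ⟨l, hlz, hlS⟩ := Submodule.exists_dual_map_eq_bot_of_notMem hz inferInstance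
  refine ⟨l, fun h => hlz (by rw [h]; rfl), fun i => ?_⟩
  have hmem : l (x i) ∈ S.map l := Submodule.mem_map_of_mem (Submodule.subset_span ⟨i, rfl⟩)
  rwa [hlS, Submodule.mem_bot] at hmem

omit [CharZero K] in
theorem hasFive_of_avoid (F : MvPolynomial (Fin 4) K) {a : Fin 4 → K} (ha : a ≠ 0) (hFa : eval a F = 0)
    (havoid : ∀ (n : ℕ) (l : Fin n → Module.Dual K (Fin 4 → K)), (∀ i, l i ≠ 0) →
      ∃ x, eval x F = 0 ∧ ∀ i, l i x ≠ 0) : HasFive F a := by
  classical
  have step : ∀ {n : ℕ}, n < 4 → ∀ x : Fin n → (Fin 4 → K), LinearIndependent K x →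
      ∃ z, eval z F = 0 ∧ LinearIndependent K (Fin.snoc x z : Fin (n + 1) → (Fin 4 → K)) := by
    intro n hn x hx
    obtain ⟨l, hl, hlx⟩ := exists_dual_of_linearIndependent hn x
    obtain ⟨z, hz, hzl⟩ := havoid 1 (fun _ => l) (fun _ => hl)
    refine ⟨z, hz, linearIndependent_finSnoc.2 ⟨hx, fun hmem => hzl 0 ?_⟩⟩
    have h1 : Submodule.span K (Set.range x) ≤ LinearMap.ker l := Submodule.span_le.2 (by rintro _ ⟨i, rfl⟩; exact hlx i)
    exact h1 hmem
  obtain ⟨z1, hz1, h1⟩ := step (n := 1) (by norm_num) ![a] (by simpa [linearIndependent_unique_iff] using ha)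
  obtain ⟨z2, hz2, h2⟩ := step (by norm_num) _ h1
  obtain ⟨z3, hz3, h3⟩ := step (by norm_num) _ h2
  set x : Fin 4 → (Fin 4 → K) := Fin.snoc (Fin.snoc (Fin.snoc ![a] z1) z2) z3 with hx
  let B := basisOfLinearIndependentOfCardEqFinrank h3 (by simp)
  obtain ⟨z4, hz4, hc⟩ := havoid 4 (fun i => B.coord i) fun i h => by
    have := LinearMap.congr_fun h (B i)
    simp at this
  let p : Fin 5 → (Fin 4 → K) := Fin.snoc x z4
  have hp0 : p 0 = a := rfl
  refine ⟨p, hp0, ?_, ?_⟩
  · intro j
    refine Fin.lastCases ?_ (fun i => ?_) j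
    · rw [show p (Fin.last 4) = z4 by simp only [p, Fin.snoc_last]]
      exact hz4
    · simp only [p, Fin.snoc_castSucc]
      fin_cases i <;> simp [x, Fin.snoc] <;> assumption
  · intro j
    rw [Fintype.linearIndependent_iff]
    intro g hg
    let g' : Fin 5 → K := Fin.insertNth j 0 g
    have hsum : ∑ i, g' i • p i = 0 := by
      rw [Fin.sum_univ_succAbove _ j]
      simp only [g', Fin.insertNth_apply_same, zero_smul, zero_add, Fin.insertNth_apply_succAbove]
      exact hg
    rw [Fin.sum_univ_castSucc] at hsum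
    simp only [p, Fin.snoc_castSucc, Fin.snoc_last] at hsum
    have hcoord : ∀ i, g' i.castSucc + g' (Fin.last 4) * B.coord i z4 = 0 := fun i => by
      have h5 := congrArg (B.coord i) hsum
      simp only [map_add, map_sum, map_smul, smul_eq_mul, map_zero] at h5
      rw [Finset.sum_eq_single i (fun b _ hb => by
        rw [show x b = B b by simp [B], Module.Basis.coord_apply, B.repr_self, Finsupp.single_apply, if_neg hb, mul_zero])
        (fun h => absurd (Finset.mem_univ i) h)] at h5
      rw [show x i = B i by simp [B], Module.Basis.coord_apply, B.repr_self, Finsupp.single_eq_same, mul_one] at h5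
      exact h5
    have hlast : g' (Fin.last 4) = 0 := by
      rcases Fin.eq_castSucc_or_eq_last j with ⟨i, hi⟩ | hi
      · have := hcoord i
        rw [← hi, show g' j = 0 by simp [g'], zero_add] at this
        exact (mul_eq_zero.1 this).resolve_right (hc i)
      · rw [← hi]; simp [g']
    intro i
    rw [show g i = g' (j.succAbove i) by simp [g']]
    rcases Fin.eq_castSucc_or_eq_last (j.succAbove i) with ⟨i', hi⟩ | hi
    · have := hcoord i'
      rw [hlast, zero_mul, add_zero] at this
      rw [hi]; exact this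
    · rw [hi]; exact hlast

/-- The point is not a T-point, in the coordinates of an algebraically closed overfield. -/
def NotT (L : Type u) [Field L] [Algebra K L] (F : MvPolynomial (Fin 4) K) (a : Fin 4 → K) : Prop :=
  ¬ ∃ L₁ L₂ L₃ : MvPolynomial (Fin 4) L, L₁.IsHomogeneous 1 ∧ L₂.IsHomogeneous 1 ∧ L₃.IsHomogeneous 1 ∧
    map (algebraMap K L) F - L₁ * L₂ * L₃ ∈ Ideal.span {∑ i, C (algebraMap K L (eval a (pderiv i F))) * X i}

theorem hasFive {L : Type u} [Field L] [IsAlgClosed L] [Algebra K L] (F : MvPolynomial (Fin 4) K)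
    (hF : F.IsHomogeneous 3) (hirr : Irreducible (map (algebraMap K L) F))
    (hcone : ¬ ∃ v : Fin 4 → K, v ≠ 0 ∧ ∑ i : Fin 4, v i • pderiv i F = 0)
    {a : Fin 4 → K} (ha : a ≠ 0) (hFa : eval a F = 0) (hT : NotT L F a) : HasFive F a := by
  classical
  have hplane := noPlane F hF hirr
  have hFa' : tri (pol F) a a a = 0 := by rw [← eval_eq_tri F hF, hFa]
  by_cases hsm : ∃ v, tri (pol F) a a v ≠ 0
  · obtain ⟨f⟩ := exists_frame (pol F) ha hFa' hsm
    exact hasFive_of_avoid F ha hFa fun n l hl =>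
      Frame.exists_avoid F hF f hFa' (D_ne_zero F hF hFa' f hT) hplane l hl
  · push Not at hsm
    refine hasFive_of_avoid F ha hFa fun n l hl => exists_avoid_singular F hF ?_ hFa' hsm ?_ ?_ l hl
    · intro h0
      exact hirr.ne_zero (by rw [h0, map_zero])
    · by_contra hQ
      push Not at hQ
      refine hcone ⟨a, ha, MvPolynomial.funext fun v => ?_⟩
      rw [map_sum, map_zero]
      simp only [smul_eval]
      rw [eval_pderiv_sum F hF, tri_comm₂ (pol_sym F), tri_comm₁ (pol_sym F), hQ, mul_zero]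
    · intro φ c
      by_cases hφ : φ = 0
      · obtain ⟨v, -, hv⟩ := hplane (LinearMap.proj 0) (fun h => by
          have := LinearMap.congr_fun h (Pi.single 0 1)
          simp at this)
        exact ⟨v, by simpa [hφ] using hv⟩
      · obtain ⟨v, hv0, hv⟩ := hplane φ hφ
        exact ⟨v, by simpa [hv0] using hv⟩

/-- A linear Pfaffian representation. -/
def HasPf (F : MvPolynomial (Fin 4) K) : Prop :=
  ∃ M : Matrix (Fin 6) (Fin 6) (MvPolynomial (Fin 4) K), (∀ i j, (M i j).IsHomogeneous 1) ∧
    M.transpose = -M ∧ (∀ i, M i i = 0) ∧ ∃ c : K, c ≠ 0 ∧ M.det = C c * F ^ 2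

omit [CharZero K] in
theorem tri_sum {R : Type v} [CommRing R] [Algebra K R] {τ : Fin 4 → Fin 4 → Fin 4 → K} {ι : Type} (s : Finset ι)
    (x : ι → Fin 4 → R) (y z : Fin 4 → R) : tri τ (∑ i ∈ s, x i) y z = ∑ i ∈ s, tri τ (x i) y z := by
  classical
  induction s using Finset.induction_on with
  | empty => simp [tri_zero]
  | insert b t hb ih => rw [Finset.sum_insert hb, Finset.sum_insert hb, tri_add, ih]

theorem tri_comb {R : Type v} [CommRing R] [Algebra K R] {τ : Fin 4 → Fin 4 → Fin 4 → K} (hτ : IsSym τ)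
    (Y : Fin 4 → R) (x : Fin 4 → Fin 4 → R) :
    tri τ (∑ i, Y i • x i) (∑ i, Y i • x i) (∑ i, Y i • x i) =
      ∑ i, ∑ j, ∑ l, Y i * Y j * Y l * tri τ (x i) (x j) (x l) := by
  rw [tri_sum]
  refine Finset.sum_congr rfl fun i _ => ?_
  rw [tri_smul, tri_comm₁ hτ, tri_sum, Finset.mul_sum]
  refine Finset.sum_congr rfl fun j _ => ?_
  rw [tri_smul, tri_comm₂ hτ, tri_comm₁ hτ, tri_sum, Finset.mul_sum, Finset.mul_sum]
  refine Finset.sum_congr rfl fun l _ => ?_
  rw [tri_smul, tri_comm₁ hτ (x l) (x j) (x i), tri_comm₂ hτ (x j) (x l) (x i), tri_comm₁ hτ (x j) (x i) (x l)]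
  ring

set_option maxHeartbeats 1000000 in
theorem hasPf {F : MvPolynomial (Fin 4) K} (hF : F.IsHomogeneous 3) {a : Fin 4 → K} (h5 : HasFive F a) : HasPf F := by
  classical
  obtain ⟨p, -, hp, hgp⟩ := h5
  have hli : LinearIndependent K (fun i : Fin 4 => p i.castSucc) := by
    have := hgp (Fin.last 4)
    simp only [Fin.succAbove_last] at this
    exact this
  let B := basisOfLinearIndependentOfCardEqFinrank hli (by simp)
  have hc : ∀ i, B.repr (p (Fin.last 4)) i ≠ 0 := fun i h0 => by
    have h1 := hgp i.castSucc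
    rw [Fintype.linearIndependent_iff] at h1
    let g' : Fin 5 → K := Fin.snoc (fun l => B.repr (p (Fin.last 4)) l) (-1)
    have hsum : ∑ l, g' l • p l = 0 := by
      rw [Fin.sum_univ_castSucc]
      simp only [g', Fin.snoc_castSucc, Fin.snoc_last, neg_smul, one_smul]
      rw [add_neg_eq_zero]
      conv_rhs => rw [← B.sum_repr (p (Fin.last 4))]
      simp [B]
    rw [Fin.sum_univ_succAbove _ i.castSucc] at hsum
    simp only [g', Fin.snoc_castSucc, h0, zero_smul, zero_add] at hsum
    obtain ⟨l, hl⟩ := Fin.exists_succAbove_eq (Fin.castSucc_lt_last i).ne'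
    have := h1 (fun l => g' (i.castSucc.succAbove l)) hsum l
    rw [hl] at this
    simp only [g', Fin.snoc_last] at this
    exact neg_ne_zero.2 one_ne_zero this
  let e : Fin 4 → (Fin 4 → K) := fun i => B.repr (p (Fin.last 4)) i • p i.castSucc
  let Y : Fin 4 → MvPolynomial (Fin 4) K := fun i => C (B.repr (p (Fin.last 4)) i)⁻¹ * linP (B.coord i)
  let τ' : Fin 4 → Fin 4 → Fin 4 → K := fun i j l => tri (pol F) (e i) (e j) (e l)
  have hτ : IsSym (pol F) := pol_sym F
  have hX : (X : Fin 4 → MvPolynomial (Fin 4) K) = ∑ i, Y i • cst (MvPolynomial (Fin 4) K) (e i) := by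
    funext j
    refine MvPolynomial.funext fun z => ?_
    simp only [eval_X, Finset.sum_apply, Pi.smul_apply, smul_eq_mul, map_sum, map_mul, Y, cst,
      MvPolynomial.algebraMap_eq, eval_C, eval_linP, e]
    conv_lhs => rw [← B.sum_repr z]
    simp only [Finset.sum_apply, Pi.smul_apply, smul_eq_mul, Module.Basis.coord_apply]
    refine Finset.sum_congr rfl fun i _ => ?_
    rw [show B i = p i.castSucc by simp [B]]
    field_simp [hc i]
    rw [mul_div_assoc, div_self (hc i), mul_one]
  have hFY : F = cubeVal τ' Y := by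
    conv_lhs => rw [← X_tri_pol F hF, hX]
    rw [tri_comb hτ]
    simp only [tri_cst, cubeVal, τ', Algebra.smul_def]
    exact Finset.sum_congr rfl fun i _ => Finset.sum_congr rfl fun j _ => Finset.sum_congr rfl fun l _ => by ring
  have hdiag : ∀ i, τ' i i i = 0 := fun i => by
    simp only [τ', e, tri_smul, tri_smul₂, tri_smul₃, ← eval_eq_tri F hF, hp, mul_zero]
  have hsum : ∑ i, ∑ j, ∑ l, τ' i j l = 0 := by
    have h1 := tri_comb hτ (1 : Fin 4 → K) e
    simp only [Pi.one_apply, one_smul, one_mul] at h1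
    have h2 : ∑ i, e i = p (Fin.last 4) := by
      conv_rhs => rw [← B.sum_repr (p (Fin.last 4))]
      simp [e, B]
    rw [h2, ← eval_eq_tri F hF, hp] at h1
    exact h1.symm
  have hval := cubeVal_eq_pfVal (R := MvPolynomial (Fin 4) K) τ'
    (fun i j l => tri_comm₁ hτ _ _ _) (fun i j l => tri_comm₂ hτ _ _ _) hdiag hsum Y
  have hY : ∀ i, Y i ∈ homogeneousSubmodule (Fin 4) K 1 := fun i => by
    rw [mem_homogeneousSubmodule]
    exact IsHomogeneous.C_mul (exists_lin _) _
  clear_value Y τ'
  have hw : ∀ i, wVec τ' Y i ∈ homogeneousSubmodule (Fin 4) K 1 := by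
    have hterm : ∀ (c : K) i, algebraMap K (MvPolynomial (Fin 4) K) c * Y i ∈ homogeneousSubmodule (Fin 4) K 1 :=
      fun c i => by rw [← Algebra.smul_def]; exact Submodule.smul_mem _ _ (hY i)
    intro i
    fin_cases i <;> simp only [wVec] <;>
      simp only [Fin.zero_eta, Fin.mk_one, Fin.reduceFinMk, Matrix.cons_val, neg_mul] <;>
      repeat (first | with_reducible exact hterm _ _ | with_reducible exact zero_mem _ | with_reducible apply add_mem | with_reducible apply sub_mem | with_reducible apply neg_mem)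
  refine ⟨pfMat Y (wVec τ' Y), fun i j => ?_, ?_, fun i => ?_, 1, one_ne_zero, ?_⟩
  · rw [← mem_homogeneousSubmodule]
    fin_cases i <;> fin_cases j <;> simp only [pfMat, Matrix.of_apply, Fin.zero_eta, Fin.mk_one, Fin.reduceFinMk,
        Matrix.cons_val', Matrix.cons_val, Matrix.empty_val', Matrix.cons_val_fin_one] <;>
      repeat (first | with_reducible exact hY _ | with_reducible exact hw _ | with_reducible exact zero_mem _ | with_reducible apply add_mem | with_reducible apply sub_mem | with_reducible apply neg_mem)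
  · ext i j
    fin_cases i <;> fin_cases j <;> simp [pfMat] <;> ring
  · fin_cases i <;> simp [pfMat]
  · rw [det_pfMat, ← hval, ← hFY, C_1, one_mul]

end Groth.Agent.CubicPf
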