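import Mathlib

/-!
# Linear Pfaffian representations of cubic forms vanishing at five points in general position
-/

set_option autoImplicit false

universe u v

open Matrix

namespace Groth.Agent.CubicPf

variable {R : Type v} [CommRing R]

/-- The alternating matrix attached to the five standard points and five linear forms. -/
def pfMat (Y : Fin 4 → R) (w : Fin 5 → R) : Matrix (Fin 6) (Fin 6) R :=
  !![0, -Y 0, -Y 1, 0, -Y 3, w 0; Y 0, 0, -Y 0 + Y 1, Y 2, -Y 0, w 1; Y 1, Y 0 - Y 1, 0, Y 1, -Y 1, w 2; 0, -Y 2, -Y 1, 0, -Y 2, w 3; Y 3, Y 0, Y 1, Y 2, 0, w 4; -w 0, -w 1, -w 2, -w 3, -w 4, 0]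

/-- Its Pfaffian. -/
def pfVal (Y : Fin 4 → R) (w : Fin 5 → R) : R :=
  w 0 * (Y 0 * Y 2 - Y 0 * Y 1) - w 1 * (Y 1 * Y 2 - Y 1 * Y 3) + w 2 * (Y 0 * Y 2 - Y 2 * Y 3)
    - w 3 * (Y 0 * Y 3 - Y 1 * Y 3) + w 4 * (Y 1 * Y 2 - Y 0 * Y 1)

set_option maxHeartbeats 4000000 in
theorem det_pfMat (Y : Fin 4 → R) (w : Fin 5 → R) : (pfMat Y w).det = pfVal Y w ^ 2 := by
  simp [pfMat, pfVal, Matrix.det_succ_row_zero, Fin.sum_univ_succ, Fin.succAbove]
  ring

/-- The value of a symmetric trilinear form. -/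
def cubeVal {k : Type u} [SMul k R] (τ : Fin 4 → Fin 4 → Fin 4 → k) (Y : Fin 4 → R) : R :=
  ∑ i, ∑ j, ∑ l, τ i j l • (Y i * Y j * Y l)

variable {k : Type u} [CommRing k] [Algebra k R]

/-- The linear forms completing the standard matrix. -/
def wVec (τ : Fin 4 → Fin 4 → Fin 4 → k) (Y : Fin 4 → R) : Fin 5 → R :=
  ![-algebraMap k R ((3 : k) * τ 0 0 1) * Y 0 - algebraMap k R ((3 : k) * τ 0 1 1) * Y 1 + algebraMap k R ((3 : k) * τ 0 2 2) * Y 2 + algebraMap k R ((3 : k) * τ 2 2 3) * Y 2 + algebraMap k R ((3 : k) * τ 0 0 1) * Y 3 + algebraMap k R ((3 : k) * τ 0 0 2) * Y 3 + algebraMap k R ((6 : k) * τ 0 2 3) * Y 3 + algebraMap k R ((3 : k) * τ 2 3 3) * Y 3, 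
    algebraMap k R ((3 : k) * τ 0 0 1) * Y 0 + algebraMap k R ((3 : k) * τ 0 0 2) * Y 0 + algebraMap k R ((3 : k) * τ 0 0 3) * Y 0 + algebraMap k R ((6 : k) * τ 0 1 3) * Y 0 + algebraMap k R ((6 : k) * τ 0 2 3) * Y 0 + algebraMap k R ((3 : k) * τ 1 1 2) * Y 0 + algebraMap k R ((3 : k) * τ 1 1 3) * Y 0 + algebraMap k R ((3 : k) * τ 2 3 3) * Y 0 - algebraMap k R ((3 : k) * τ 1 1 2) * Y 1 - algebraMap k R ((3 : k) * τ 1 2 2) * Y 2 + algebraMap k R ((3 : k) * τ 0 3 3) * Y 3 + algebraMap k R ((3 : k) * τ 1 3 3) * Y 3, 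
    algebraMap k R ((3 : k) * τ 0 0 1) * Y 0 + algebraMap k R ((3 : k) * τ 0 0 2) * Y 0 - algebraMap k R ((3 : k) * τ 0 3 3) * Y 1 - algebraMap k R ((3 : k) * τ 1 2 2) * Y 1 - algebraMap k R ((6 : k) * τ 1 2 3) * Y 1 - algebraMap k R ((3 : k) * τ 1 3 3) * Y 1 - algebraMap k R ((3 : k) * τ 2 2 3) * Y 2 - algebraMap k R ((3 : k) * τ 2 3 3) * Y 3, 
    -algebraMap k R ((3 : k) * τ 0 0 3) * Y 0 + algebraMap k R ((3 : k) * τ 1 1 2) * Y 1 + algebraMap k R ((3 : k) * τ 1 1 3) * Y 1 - algebraMap k R ((3 : k) * τ 0 3 3) * Y 3, 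
    0]

set_option maxHeartbeats 4000000 in
/-- A cubic vanishing at the five standard points is a Pfaffian. -/
theorem cubeVal_eq_pfVal (τ : Fin 4 → Fin 4 → Fin 4 → k) (h₁ : ∀ i j l, τ j i l = τ i j l)
    (h₂ : ∀ i j l, τ i l j = τ i j l) (hdiag : ∀ i, τ i i i = 0) (hsum : ∑ i, ∑ j, ∑ l, τ i j l = 0)
    (Y : Fin 4 → R) : cubeVal τ Y = pfVal Y (wVec τ Y) := by
  have h₃ : ∀ i j l, τ l j i = τ i j l := fun i j l => by rw [h₂ l i j, h₁ i l j, h₂ i j l]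
  have h₄ : ∀ i j l, τ j l i = τ i j l := fun i j l => by rw [h₂ j i l, h₁ i j l]
  have h₅ : ∀ i j l, τ l i j = τ i j l := fun i j l => by rw [h₁ i l j, h₂ i j l]
  have r010 := h₄ 0 0 1
  have r100 := h₅ 0 0 1
  have r020 := h₄ 0 0 2
  have r200 := h₅ 0 0 2
  have r030 := h₄ 0 0 3
  have r300 := h₅ 0 0 3
  have r101 := h₅ 0 1 1
  have r110 := h₄ 0 1 1
  have r021 := h₂ 0 1 2
  have r102 := h₁ 0 1 2
  have r120 := h₄ 0 1 2
  have r201 := h₅ 0 1 2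
  have r210 := h₃ 0 1 2
  have r031 := h₂ 0 1 3
  have r103 := h₁ 0 1 3
  have r130 := h₄ 0 1 3
  have r301 := h₅ 0 1 3
  have r310 := h₃ 0 1 3
  have r202 := h₅ 0 2 2
  have r220 := h₄ 0 2 2
  have r032 := h₂ 0 2 3
  have r203 := h₁ 0 2 3
  have r230 := h₄ 0 2 3
  have r302 := h₅ 0 2 3
  have r320 := h₃ 0 2 3
  have r303 := h₅ 0 3 3
  have r330 := h₄ 0 3 3
  have r121 := h₄ 1 1 2
  have r211 := h₅ 1 1 2
  have r131 := h₄ 1 1 3
  have r311 := h₅ 1 1 3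
  have r212 := h₅ 1 2 2
  have r221 := h₄ 1 2 2
  have r132 := h₂ 1 2 3
  have r213 := h₁ 1 2 3
  have r231 := h₄ 1 2 3
  have r312 := h₅ 1 2 3
  have r321 := h₃ 1 2 3
  have r313 := h₅ 1 3 3
  have r331 := h₄ 1 3 3
  have r232 := h₄ 2 2 3
  have r322 := h₅ 2 2 3
  have r323 := h₅ 2 3 3
  have r332 := h₄ 2 3 3
  have hd0 := hdiag 0
  have hd1 := hdiag 1
  have hd2 := hdiag 2
  have hd3 := hdiag 3
  simp only [Fin.sum_univ_four, hd0, hd1, hd2, hd3, r010, r100, r020, r200, r030, r300, r101, r110, r021, r102, r120, r201, r210, r031, r103, r130, r301, r310, r202, r220, r032, r203, r230, r302, r320, r303, r330, r121, r211, r131, r311, r212, r221, r132, r213, r231, r312, r321, r313, r331, r232, r322, r323, r332] at hsum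
  simp only [cubeVal, Fin.sum_univ_four, hd0, hd1, hd2, hd3, r010, r100, r020, r200, r030, r300, r101, r110, r021, r102, r120, r201, r210, r031, r103, r130, r301, r310, r202, r220, r032, r203, r230, r302, r320, r303, r330, r121, r211, r131, r311, r212, r221, r132, r213, r231, r312, r321, r313, r331, r232, r322, r323, r332, pfVal, wVec, Matrix.cons_val, Algebra.smul_def, map_mul, map_ofNat, map_zero, map_one]
  have hs := congrArg (algebraMap k R) hsum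
  simp only [map_add, map_zero] at hs
  linear_combination (Y 0 * Y 1 * Y 2) * hs

end Groth.Agent.CubicPf
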