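import Groth.Agent.CubicPf.Section

/-!
# Rational points of a cubic surface outside finitely many planes
-/

set_option autoImplicit false

universe u v

open MvPolynomial

namespace Groth.Agent.CubicPf

variable {K : Type u} [Field K] [CharZero K]

/-- The linear form of a functional. -/
noncomputable def linP (φ : Module.Dual K (Fin 4 → K)) : MvPolynomial (Fin 4) K :=
  ∑ i, C (φ (Pi.single i 1)) * X i

omit [CharZero K] in
theorem eval_linP (φ : Module.Dual K (Fin 4 → K)) (x : Fin 4 → K) : eval x (linP φ) = φ x := by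
  conv_rhs => rw [← Finset.univ_sum_single x]
  simp only [linP, map_sum, map_mul, eval_C, eval_X]
  refine Finset.sum_congr rfl fun i _ => ?_
  rw [show Pi.single i (x i) = x i • (Pi.single i 1 : Fin 4 → K) by rw [← Pi.single_smul]; simp, map_smul, smul_eq_mul,
    mul_comm]

omit [CharZero K] in
theorem linP_ne_zero {φ : Module.Dual K (Fin 4 → K)} (h : φ ≠ 0) : linP φ ≠ 0 := fun h0 =>
  h (LinearMap.ext fun x => by rw [← eval_linP, h0, map_zero]; rfl)

theorem exists_forall_ne_zero {ι : Type} [Fintype ι] (μ : ι → Module.Dual K (Fin 4 → K)) (h : ∀ i, μ i ≠ 0) :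
    ∃ x, ∀ i, μ i x ≠ 0 := by
  classical
  by_contra hcon
  push Not at hcon
  refine (Finset.prod_ne_zero_iff.2 fun i (_ : i ∈ Finset.univ) => linP_ne_zero (h i)) (MvPolynomial.funext fun x => ?_)
  obtain ⟨i, hi⟩ := hcon x
  rw [map_prod, map_zero]
  exact Finset.prod_eq_zero (Finset.mem_univ i) (by rw [eval_linP, hi])

/-- The projection onto the kernel of a functional. -/
def proj (φ : Module.Dual K (Fin 4 → K)) (N : Fin 4 → K) : (Fin 4 → K) →ₗ[K] (Fin 4 → K) :=
  LinearMap.id - φ.smulRight N

omit [CharZero K] in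
theorem proj_apply (φ : Module.Dual K (Fin 4 → K)) (N x : Fin 4 → K) : proj φ N x = x - φ x • N := rfl

omit [CharZero K] in
theorem exists_eq_one {φ : Module.Dual K (Fin 4 → K)} (h : φ ≠ 0) : ∃ N, φ N = 1 := by
  obtain ⟨v, hv⟩ : ∃ v, φ v ≠ 0 := by
    by_contra! hh
    exact h (LinearMap.ext hh)
  exact ⟨(φ v)⁻¹ • v, by simp [hv]⟩

/-- The generic point of a hyperplane. -/
noncomputable def projP (φ : Module.Dual K (Fin 4 → K)) (N : Fin 4 → K) : Fin 4 → MvPolynomial (Fin 4) K :=
  fun i => X i - linP φ * C (N i)

omit [CharZero K] in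
theorem eval_comp_projP (φ : Module.Dual K (Fin 4 → K)) (N x : Fin 4 → K) :
    ⇑(eval x) ∘ projP φ N = proj φ N x := by
  funext i
  simp [projP, proj_apply, eval_linP]

omit [CharZero K] in
theorem eval_aeval_projP (φ : Module.Dual K (Fin 4 → K)) (N x : Fin 4 → K) (F : MvPolynomial (Fin 4) K) :
    eval x (aeval (projP φ N) F) = eval (proj φ N x) F := by
  rw [← aeval_eq_eval, ← aeval_eq_eval, ← AlgHom.comp_apply, comp_aeval]
  congr 2
  exact eval_comp_projP φ N x

/-- A cubic form vanishing on no plane. -/
def NoPlane (F : MvPolynomial (Fin 4) K) : Prop :=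
  ∀ φ : Module.Dual K (Fin 4 → K), φ ≠ 0 → ∃ x, φ x = 0 ∧ eval x F ≠ 0

theorem noPlane {L : Type u} [Field L] [Algebra K L] (F : MvPolynomial (Fin 4) K) (hF : F.IsHomogeneous 3)
    (hirr : Irreducible (map (algebraMap K L) F)) : NoPlane F := by
  intro φ hφ
  by_contra hcon
  push Not at hcon
  obtain ⟨N, hN⟩ := exists_eq_one hφ
  have h0 : aeval (projP φ N) F = 0 := MvPolynomial.funext fun x => by
    rw [eval_aeval_projP, map_zero]
    exact hcon _ (by simp [proj_apply, hN])
  have hdvd : linP φ ∣ F := by
    rw [← Ideal.mem_span_singleton, ← Ideal.Quotient.eq_zero_iff_mem]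
    let mk := Ideal.Quotient.mkₐ K (Ideal.span {linP φ})
    show mk F = 0
    have he : mk = mk.comp (aeval (projP φ N)) := MvPolynomial.algHom_ext fun i => by
      have hl : mk (linP φ) = 0 := by
        rw [Ideal.Quotient.mkₐ_eq_mk, Ideal.Quotient.eq_zero_iff_mem]
        exact Ideal.mem_span_singleton_self _
      simp [projP, hl]
    rw [he, AlgHom.comp_apply, h0, map_zero]
  obtain ⟨Q, hQ⟩ := hdvd
  have hinj : Function.Injective (map (algebraMap K L) : MvPolynomial (Fin 4) K → MvPolynomial (Fin 4) L) :=
    MvPolynomial.map_injective _ (algebraMap K L).injective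
  have hdeg : ∀ G : MvPolynomial (Fin 4) K, IsUnit (map (algebraMap K L) G) → G.totalDegree = 0 := fun G hG => by
    have h1 := ((MvPolynomial.isUnit_iff_totalDegree_of_isReduced).1 hG).2
    rwa [MvPolynomial.totalDegree, MvPolynomial.support_map_of_injective _ (algebraMap K L).injective,
      ← MvPolynomial.totalDegree] at h1
  have hlh : (linP φ).IsHomogeneous 1 := exists_lin _
  rw [hQ, map_mul] at hirr
  have hF0 : F ≠ 0 := fun h => hirr.ne_zero (by rw [← map_mul, ← hQ, h, map_zero])
  have hd := congrArg MvPolynomial.totalDegree hQ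
  rw [hF.totalDegree hF0, MvPolynomial.totalDegree_mul_of_isDomain (linP_ne_zero hφ)
    (fun h => hF0 (by rw [hQ, h, mul_zero])), hlh.totalDegree (linP_ne_zero hφ)] at hd
  rcases hirr.isUnit_or_isUnit rfl with h | h
  · have h1 := hdeg _ h
    rw [hlh.totalDegree (linP_ne_zero hφ)] at h1
    omega
  · have := hdeg _ h
    omega

/-- A plane section containing four distinct lines is the whole plane. -/
theorem eq_zero_of_four_lines (F : MvPolynomial (Fin 4) K) (hF : F.IsHomogeneous 3)
    (φ : Module.Dual K (Fin 4 → K)) (hφ : φ ≠ 0) (μ : Fin 4 → Module.Dual K (Fin 4 → K))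
    (hvan : ∀ i x, φ x = 0 → μ i x = 0 → eval x F = 0)
    (hsep : ∀ i j, i ≠ j → ∃ x, φ x = 0 ∧ μ i x = 0 ∧ μ j x ≠ 0) (x : Fin 4 → K) (hx : φ x = 0) : eval x F = 0 := by
  classical
  set τ := pol F
  have hτ : IsSym τ := pol_sym F
  obtain ⟨N, hN⟩ := exists_eq_one hφ
  let ν : Fin 4 → Module.Dual K (Fin 4 → K) := fun i => (μ i).comp (proj φ N)
  have hproj : ∀ z, φ z = 0 → proj φ N z = z := fun z hz => by rw [proj_apply, hz, zero_smul, sub_zero]
  have hker : ∀ z, φ (proj φ N z) = 0 := fun z => by simp [proj_apply, hN]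
  have hν : ∀ i, ν i ≠ 0 := fun i h0 => by
    obtain ⟨j, hj⟩ : ∃ j, j ≠ i := exists_ne i
    obtain ⟨z, hz1, -, hz3⟩ := hsep j i hj
    have := LinearMap.congr_fun h0 z
    simp only [ν, LinearMap.comp_apply, hproj z hz1, LinearMap.zero_apply] at this
    exact hz3 this
  obtain ⟨y₀, hy₀⟩ := exists_forall_ne_zero ν hν
  set y := proj φ N y₀
  have hy : ∀ i, μ i y ≠ 0 := hy₀
  let dd : { ij : Fin 4 × Fin 4 // ij.1 ≠ ij.2 } → Module.Dual K (Fin 4 → K) :=
    fun ij => μ ij.1.2 y • ν ij.1.1 - μ ij.1.1 y • ν ij.1.2
  have hdd : ∀ ij, dd ij ≠ 0 := fun ij h0 => by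
    obtain ⟨z, hz1, hz2, hz3⟩ := hsep ij.1.1 ij.1.2 ij.2
    have := LinearMap.congr_fun h0 z
    simp [dd, ν, hproj z hz1, hz2, hy] at this
    exact hz3 this
  have hgen : ∀ z, φ z = 0 → (∀ ij, dd ij z ≠ 0) → eval z F = 0 := by
    intro z hz hne
    let P : Polynomial K := Polynomial.C (tri τ z z z) + Polynomial.C (3 * tri τ z z y) * Polynomial.X
      + Polynomial.C (3 * tri τ z y y) * Polynomial.X ^ 2 + Polynomial.C (tri τ y y y) * Polynomial.X ^ 3
    have hP : ∀ r, P.eval r = eval (z + r • y) F := fun r => by
      rw [eval_eq_tri F hF, cube_add hτ]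
      simp [P]
      ring
    let r : Fin 4 → K := fun i => -(μ i z) / μ i y
    have hr : Function.Injective r := fun i j hij => by
      by_contra hne'
      refine hne ⟨(i, j), hne'⟩ ?_
      simp only [r, div_eq_div_iff (hy i) (hy j)] at hij
      simp [dd, ν, hproj z hz]
      linear_combination -hij
    have hP0 : P = 0 := Polynomial.eq_zero_of_natDegree_lt_card_of_eval_eq_zero P hr (fun i => by
      rw [hP]
      refine hvan i _ (by simp [hz, y, hker]) ?_
      simp only [r, map_add, map_smul, smul_eq_mul]
      field_simp [hy i]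
      ring) (by
        refine lt_of_le_of_lt (b := 3) ?_ (by simp)
        simp only [P]
        compute_degree)
    have := hP 0
    rw [hP0, Polynomial.eval_zero, zero_smul, add_zero] at this
    exact this.symm
  have hpoly : aeval (projP φ N) F * ∏ ij, linP (dd ij) = 0 := MvPolynomial.funext fun z => by
    rw [map_zero, map_mul, map_prod, eval_aeval_projP]
    by_cases hall : ∀ ij, dd ij z ≠ 0
    · rw [hgen _ (hker z) fun ij => ?_, zero_mul]
      have : dd ij (proj φ N z) = dd ij z := by simp [dd, ν, hproj _ (hker z)]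
      rw [this]
      exact hall ij
    · push Not at hall
      obtain ⟨ij, hij⟩ := hall
      rw [Finset.prod_eq_zero (Finset.mem_univ ij) (by rw [eval_linP, hij]), mul_zero]
  have h0 := (mul_eq_zero.1 hpoly).resolve_right (Finset.prod_ne_zero_iff.2 fun ij _ => linP_ne_zero (hdd ij))
  rw [← hproj x hx, ← eval_aeval_projP, h0, map_zero]

omit [CharZero K] in
theorem eval_cst (t : K) (x : Fin 4 → K) : ⇑(Polynomial.evalRingHom t) ∘ cst (Polynomial K) x = x := by
  funext i; simp [cst]

/-- A functional on vectors of polynomials. -/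
noncomputable def dualP (l : Module.Dual K (Fin 4 → K)) : (Fin 4 → Polynomial K) →ₗ[Polynomial K] Polynomial K :=
  ∑ i, Polynomial.C (l (Pi.single i 1)) • LinearMap.proj i

omit [CharZero K] in
theorem eval_dualP (l : Module.Dual K (Fin 4 → K)) (z : Fin 4 → Polynomial K) (t : K) :
    (dualP l z).eval t = l (fun i => (z i).eval t) := by
  rw [← eval_linP l]
  simp [dualP, linP, Polynomial.eval_finsetSum]

omit [CharZero K] in
theorem dualP_cst (l : Module.Dual K (Fin 4 → K)) (x : Fin 4 → K) :
    dualP l (cst (Polynomial K) x) = Polynomial.C (l x) := by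
  rw [← eval_linP l]
  simp [dualP, linP, cst, map_sum]

omit [CharZero K] in
theorem eval_tri (τ : Fin 4 → Fin 4 → Fin 4 → K) (t : K) (x y z : Fin 4 → Polynomial K) :
    (tri τ x y z).eval t = tri τ (fun i => (x i).eval t) (fun i => (y i).eval t) fun i => (z i).eval t := by
  rw [← Polynomial.coe_aeval_eq_eval, tri_map]
  rfl

namespace Frame

variable {τ : Fin 4 → Fin 4 → Fin 4 → K} {a : Fin 4 → K} (f : Frame τ a)

omit [CharZero K] in
theorem eq_zero_of_forall (hFa : tri τ a a a = 0) (l : Module.Dual K (Fin 4 → K)) (ha : l a = 0) (hu : l f.u = 0)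
    (hw : l f.w = 0) (hN : l f.N = 0) : l = 0 := LinearMap.ext fun v => by
  obtain ⟨x, y, z, h⟩ := f.span (v + (-(tri τ a a v / tri τ a a f.N)) • f.N) (by
    rw [tri_add₃, tri_smul₃, neg_mul, div_mul_cancel₀ _ f.cN, add_neg_cancel])
  have := congrArg l h
  simpa [ha, hu, hw, hN] using this

/-- Points of the tangent sections at the points of a tangent section avoid finitely many planes. -/
theorem exists_avoid (F : MvPolynomial (Fin 4) K) (hF : F.IsHomogeneous 3) (f : Frame (pol F) a)
    (hFa : tri (pol F) a a a = 0) (hD : f.D ≠ 0) (hplane : NoPlane F) {ι : Type} [Finite ι]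
    (l : ι → Module.Dual K (Fin 4 → K)) (hl : ∀ i, l i ≠ 0) : ∃ x, eval x F = 0 ∧ ∀ i, l i x ≠ 0 := by
  classical
  have hτ : IsSym (pol F) := pol_sym F
  have hq : f.q ≠ 0 := fun h => hD (by simp [Frame.D, h])
  let bt : K → (Fin 4 → K) := fun t i => (f.b i).eval t
  let Lt : K → (Fin 4 → K) := fun t i => (Polynomial.derivative (f.b i)).eval t
  let good : Set K := {t | (f.q * f.D).eval t ≠ 0}
  have hgoodc : goodᶜ.Finite := by
    refine (Polynomial.finite_setOfPred_isRoot (mul_ne_zero hq hD)).subset fun t ht => ?_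
    simpa [good, or_iff_not_imp_left] using ht
  have hbb : ∀ t, tri (pol F) (bt t) (bt t) (bt t) = 0 := fun t => by
    rw [← eval_tri, f.tri_b hτ hFa, Polynomial.eval_zero]
  have hbL : ∀ t, tri (pol F) (bt t) (bt t) (Lt t) = 0 := fun t => by
    show tri (pol F) _ _ (fun i => ((Polynomial.derivative ∘ f.b) i).eval t) = 0
    rw [← eval_tri, f.tri_bbd hτ hFa, Polynomial.eval_zero]
  have hbba : ∀ t ∈ good, tri (pol F) (bt t) (bt t) a ≠ 0 := fun t ht h0 => by
    rw [tri_comm₂ hτ, tri_comm₁ hτ] at h0
    have h1 := congrArg (fun p => p.eval t) (f.tri_abb hτ hFa)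
    simp only [Polynomial.eval_mul, Polynomial.eval_pow, Polynomial.eval_ofNat, eval_tri] at h1
    have h2 : (fun i => (cst (Polynomial K) a i).eval t) = a := eval_cst t a
    rw [h2, h0, mul_zero] at h1
    simp only [good, Set.mem_ofPred_eq, Polynomial.eval_mul, mul_ne_zero_iff] at ht
    exact ht.1 (pow_eq_zero_iff (n := 3) (by norm_num) |>.1 h1.symm)
  have hbLL : ∀ t ∈ good, tri (pol F) (bt t) (Lt t) (Lt t) ≠ 0 := fun t ht h0 => by
    have h1 := congrArg (fun p => p.eval t) (f.hess hτ hFa hq)
    simp only [Polynomial.eval_mul, Polynomial.eval_neg, Polynomial.eval_ofNat, eval_tri, Function.comp_apply] at h1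
    rw [h0, mul_zero, zero_eq_neg] at h1
    simp only [good, Set.mem_ofPred_eq, Polynomial.eval_mul] at ht
    exact ht h1
  let Nb : K → (Fin 4 → K) := fun t =>
    f.N + (-(tri (pol F) (bt t) (bt t) f.N / tri (pol F) (bt t) (bt t) a)) • a
  have hbN : ∀ t ∈ good, tri (pol F) (bt t) (bt t) (Nb t) = 0 := fun t ht => by
    rw [tri_add₃, tri_smul₃, neg_mul, div_mul_cancel₀ _ (hbba t ht), add_neg_cancel]
  have hφdir : ∀ t, tri (pol F) a a (fun i => (f.dir i).eval t) = 0 := fun t => by
    have h1 := congrArg (fun p => p.eval t) f.aad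
    simp only [eval_tri, Polynomial.eval_zero] at h1
    rwa [show (fun i => (cst (Polynomial K) a i).eval t) = a from eval_cst t a] at h1
  have hφb : ∀ t, tri (pol F) a a (bt t) = 0 := fun t => by
    rw [show bt t = f.c.eval t • a + (-f.q.eval t) • (fun i => (f.dir i).eval t) by
      funext i; simp [bt, Frame.b, cst]]
    rw [tri_add₃, tri_smul₃, tri_smul₃, hFa, hφdir, mul_zero, mul_zero, add_zero]
  have hφL : ∀ t, tri (pol F) a a (Lt t) = 0 := fun t => by
    rw [show Lt t = (Polynomial.derivative f.c).eval t • a + (-(Polynomial.derivative f.q).eval t) • (fun i => (f.dir i).eval t)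
        + (-f.q.eval t) • f.w by
      funext i
      have := congrFun (congrArg (fun g : Fin 4 → Polynomial K => fun j => (g j).eval t) f.derivative_b) i
      simpa [Lt, cst] using this]
    rw [tri_add₃, tri_add₃, tri_smul₃, tri_smul₃, tri_smul₃, hFa, hφdir, f.cw]
    simp
  have hφN : ∀ t, tri (pol F) a a (Nb t) = tri (pol F) a a f.N := fun t => by
    rw [tri_add₃, tri_smul₃, hFa, mul_zero, add_zero]
  let v : K → Fin 4 → Polynomial K := fun t =>
    cst (Polynomial K) (Lt t) + (Polynomial.X : Polynomial K) • cst (Polynomial K) (Nb t)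
  let A : K → Polynomial K := fun t => 3 * tri (pol F) (cst (Polynomial K) (bt t)) (v t) (v t)
  let B : K → Polynomial K := fun t => tri (pol F) (v t) (v t) (v t)
  let p : K → Fin 4 → Polynomial K := fun t => B t • cst (Polynomial K) (bt t) + (-A t) • v t
  have hA0 : ∀ t ∈ good, A t ≠ 0 := fun t ht h0 => by
    refine hbLL t ht ?_
    have h1 := congrArg (fun P => P.eval 0) h0
    simpa [A, v, eval_tri, cst] using h1
  have hp : ∀ t ∈ good, tri (pol F) (p t) (p t) (p t) = 0 := fun t ht => by
    have e1 : tri (pol F) (cst (Polynomial K) (bt t)) (cst (Polynomial K) (bt t)) (v t) = 0 := by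
      simp only [v, tri_add₃, tri_smul₃, tri_cst, hbL, hbN t ht, map_zero, mul_zero, add_zero]
    simp only [p]
    rw [cube_add hτ]
    simp only [tri_smul, tri_smul₂, tri_smul₃, tri_cst, hbb, map_zero, e1]
    simp only [A, B]
    ring
  have key : ∀ i, {t | t ∈ good ∧ dualP (l i) (p t) = 0}.Finite := by
    intro i
    set m := l i with hm
    let Θ0 : Set K := {t | t ∈ good ∧ dualP m (p t) = 0 ∧ m (bt t) = 0}
    let Θ1 : Set K := {t | t ∈ good ∧ dualP m (p t) = 0 ∧ m (bt t) ≠ 0}
    refine (Set.Finite.union (s := Θ0) (t := Θ1) ?_ ?_).subset fun t ht => ?_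
    · by_contra hinf
      have hzero : dualP m f.b = 0 :=
        Polynomial.eq_zero_of_infinite_isRoot _ (Set.Infinite.mono (fun t ht => by
          show (dualP m f.b).eval t = 0
          rw [eval_dualP]; exact ht.2.2) hinf)
      simp only [Frame.b, Frame.dir, map_add, map_smul, dualP_cst, smul_eq_mul] at hzero
      have hma : m a = 0 := by
        by_contra hma
        refine hD ?_
        have hc : f.c = f.q * (Polynomial.C (m f.u / m a) + Polynomial.X * Polynomial.C (m f.w / m a)) := by
          refine mul_right_cancel₀ (b := Polynomial.C (m a)) (Polynomial.C_ne_zero.2 hma) ?_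
          rw [mul_assoc, add_mul, mul_assoc Polynomial.X, ← Polynomial.C_mul, ← Polynomial.C_mul,
            div_mul_cancel₀ _ hma, div_mul_cancel₀ _ hma]
          linear_combination hzero
        simp [Frame.D, hc, Polynomial.derivative_mul]
        ring
      rw [hma, map_zero, mul_zero, zero_add, neg_mul, neg_eq_zero] at hzero
      have huw := (mul_eq_zero.1 hzero).resolve_left hq
      have hu : m f.u = 0 := by simpa using congrArg (fun P => P.coeff 0) huw
      have hw : m f.w = 0 := by simpa using congrArg (fun P => P.coeff 1) huw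
      obtain ⟨t, ht, h0, hbt⟩ := Set.Infinite.nonempty hinf
      simp only [p, map_add, map_smul, dualP_cst, hbt, map_zero, smul_eq_mul, mul_zero, zero_add, neg_mul,
        neg_eq_zero, v] at h0
      have h1 := congrArg (fun P => P.coeff 1) ((mul_eq_zero.1 h0).resolve_left (hA0 t ht))
      simp [Nb, hma] at h1
      exact hl i (f.eq_zero_of_forall hFa m hma hu hw h1)
    · by_contra hinf
      let e1 : K → (Fin 4 → K) := fun t => Lt t + (-(m (Lt t) / m (bt t))) • bt t
      let e2 : K → (Fin 4 → K) := fun t => Nb t + (-(m (Nb t) / m (bt t))) • bt t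
      have hme1 : ∀ t ∈ Θ1, m (e1 t) = 0 := fun t ht => by simp [e1, ht.2.2]
      have hme2 : ∀ t ∈ Θ1, m (e2 t) = 0 := fun t ht => by simp [e2, ht.2.2]
      have hφe1 : ∀ t, tri (pol F) a a (e1 t) = 0 := fun t => by
        rw [tri_add₃, tri_smul₃, hφL, hφb, mul_zero, add_zero]
      have hφe2 : ∀ t, tri (pol F) a a (e2 t) = tri (pol F) a a f.N := fun t => by
        rw [tri_add₃, tri_smul₃, hφN, hφb, mul_zero, add_zero]
      have he1 : ∀ t ∈ Θ1, e1 t ≠ 0 := fun t ht h0 => hbLL t ht.1 (by
        have hL : Lt t = (m (Lt t) / m (bt t)) • bt t := by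
          simp only [e1, neg_smul, ← sub_eq_add_neg, sub_eq_zero] at h0
          exact h0
        rw [hL, tri_smul₂, tri_smul₃, hbb]; simp)
      have hline : ∀ t ∈ Θ1, ∀ x y : K, eval (x • e1 t + y • e2 t) F = 0 := by
        intro t ht x y
        obtain ⟨htg, hlp, hbt⟩ := ht
        have hpe : p t = (-A t) • (cst (Polynomial K) (e1 t) + (Polynomial.X : Polynomial K) • cst (Polynomial K) (e2 t)) := by
          simp only [p, v, map_add, map_smul, dualP_cst, smul_eq_mul] at hlp
          have hB : B t = A t * (Polynomial.C (m (Lt t) / m (bt t)) + Polynomial.X * Polynomial.C (m (Nb t) / m (bt t))) := by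
            refine mul_right_cancel₀ (b := Polynomial.C (m (bt t))) (Polynomial.C_ne_zero.2 hbt) ?_
            rw [mul_assoc, add_mul, mul_assoc Polynomial.X, ← Polynomial.C_mul, ← Polynomial.C_mul,
              div_mul_cancel₀ _ hbt, div_mul_cancel₀ _ hbt]
            linear_combination hlp
          funext j
          simp [p, v, e1, e2, cst, hB]
          ring
        have h1 := hp t htg
        rw [hpe] at h1
        simp only [tri_smul, tri_smul₂, tri_smul₃, mul_eq_zero, neg_eq_zero, hA0 t htg, false_or] at h1
        rw [cube_add hτ] at h1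
        simp only [tri_cst, Polynomial.algebraMap_eq] at h1
        have h2 : Polynomial.C (tri (pol F) (e1 t) (e1 t) (e1 t))
            + Polynomial.C (3 * tri (pol F) (e1 t) (e1 t) (e2 t)) * Polynomial.X
            + Polynomial.C (3 * tri (pol F) (e1 t) (e2 t) (e2 t)) * Polynomial.X ^ 2
            + Polynomial.C (tri (pol F) (e2 t) (e2 t) (e2 t)) * Polynomial.X ^ 3 = 0 := by
          simp only [map_mul, map_ofNat]
          linear_combination h1
        have c0 := congrArg (fun P => P.coeff 0) h2
        have c1 := congrArg (fun P => P.coeff 1) h2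
        have c2 := congrArg (fun P => P.coeff 2) h2
        have c3 := congrArg (fun P => P.coeff 3) h2
        simp only [Polynomial.coeff_add, Polynomial.coeff_C_mul, Polynomial.coeff_X_pow, Polynomial.coeff_C,
          Polynomial.coeff_X, Polynomial.coeff_zero, Nat.reduceEqDiff, OfNat.ofNat_ne_zero, OfNat.ofNat_ne_one,
          OfNat.one_ne_ofNat, OfNat.zero_ne_ofNat, one_ne_zero, zero_ne_one, if_true, if_false, mul_one, mul_zero,
          add_zero, zero_add, mul_eq_zero, false_or] at c0 c1 c2 c3
        rw [eval_eq_tri F hF, cube_add hτ]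
        simp only [tri_smul, tri_smul₂, tri_smul₃, c0, c1, c2, c3]
        ring
      let cls : K → Submodule K (Fin 4 → K) := fun t => Submodule.span K {e1 t}
      by_cases hfinite : (cls '' Θ1).Finite
      · obtain ⟨c₀, -, hc₀⟩ : ∃ c₀ ∈ cls '' Θ1, {t | t ∈ Θ1 ∧ cls t = c₀}.Infinite := by
          by_contra hall
          push Not at hall
          refine hinf ((hfinite.biUnion fun c hc => hall c hc).subset fun t ht => ?_)
          exact Set.mem_biUnion ⟨t, ht, rfl⟩ ⟨ht, rfl⟩
        obtain ⟨t₀, ht₀, rfl⟩ := hc₀.nonempty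
        obtain ⟨m₀, m₁, m₂, hM⟩ := f.span (e1 t₀) (hφe1 t₀)
        have hzero : f.q ^ 2 * Polynomial.C m₀ + Polynomial.C m₁ * f.q * f.c
            - (Polynomial.X * Polynomial.C m₁ - Polynomial.C m₂)
              * (Polynomial.derivative f.c * f.q - f.c * Polynomial.derivative f.q) = 0 := by
          refine Polynomial.eq_zero_of_infinite_isRoot _ (Set.Infinite.mono (fun t ht => ?_) hc₀)
          obtain ⟨ht, htc⟩ := ht
          obtain ⟨r, hr⟩ := Submodule.mem_span_singleton.1
            (show e1 t₀ ∈ cls t by rw [htc]; exact Submodule.mem_span_singleton_self _)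
          have hb : bt t = f.c.eval t • a + (-f.q.eval t) • f.u + (-(f.q.eval t * t)) • f.w := by
            funext j; simp [bt, Frame.b, Frame.dir, cst]; ring
          have hL : Lt t = (Polynomial.derivative f.c).eval t • a + (-(Polynomial.derivative f.q).eval t) • f.u
              + (-((Polynomial.derivative f.q).eval t * t) - f.q.eval t) • f.w := by
            funext j
            have := congrFun (congrArg (fun g : Fin 4 → Polynomial K => fun i => (g i).eval t) f.derivative_b) j
            simp [Frame.dir, cst] at this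
            simp [Lt]
            linear_combination this
          set x := -(r * (m (Lt t) / m (bt t))) with hx
          obtain ⟨h0, h1, h2⟩ := f.li (m₀ - (x * f.c.eval t + r * (Polynomial.derivative f.c).eval t))
            (m₁ - (x * (-f.q.eval t) + r * (-(Polynomial.derivative f.q).eval t)))
            (m₂ - (x * (-(f.q.eval t * t)) + r * (-((Polynomial.derivative f.q).eval t * t) - f.q.eval t))) (by
              have h3 : e1 t₀ = r • Lt t + x • bt t := by
                rw [← hr]; simp only [e1, hx]; module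
              rw [hM] at h3
              rw [hb, hL] at h3
              funext j
              have := congrFun h3 j
              simp at this ⊢
              linear_combination this)
          simp only [Polynomial.IsRoot, Polynomial.eval_sub, Polynomial.eval_add, Polynomial.eval_mul,
            Polynomial.eval_pow, Polynomial.eval_C, Polynomial.eval_X, Set.mem_ofPred_eq]
          linear_combination (f.q.eval t ^ 2) * h0 + f.q.eval t * f.c.eval t * h1
            - ((Polynomial.derivative f.c).eval t * f.q.eval t - f.c.eval t * (Polynomial.derivative f.q).eval t)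
              * (t * h1 - h2)
        have hd := congrArg (fun z => Polynomial.derivative z) hzero
        simp [Polynomial.derivative_mul, Polynomial.derivative_pow, Polynomial.C_ofNat] at hd
        have hprod : (Polynomial.X * Polynomial.C m₁ - Polynomial.C m₂) * f.D = 0 := by
          rw [Frame.D]
          linear_combination 2 * Polynomial.derivative f.q * hzero - f.q * hd
        have hlin := (mul_eq_zero.1 hprod).resolve_right hD
        have h1 : m₁ = 0 := by simpa using congrArg (fun P => P.coeff 1) hlin
        have h2 : m₂ = 0 := by simpa [h1] using congrArg (fun P => P.coeff 0) hlin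
        simp [h1, h2, hq] at hzero
        exact he1 t₀ ht₀ (by rw [hM, h1, h2, hzero]; simp)
      · obtain ⟨s, hs, hcard⟩ := Set.Infinite.exists_subset_card_eq hfinite 4
        let es : Fin 4 ≃ s := (s.equivFinOfCardEq hcard).symm
        choose T hT hTc using fun j : Fin 4 => hs (es j).2
        have hTne : ∀ j j', j ≠ j' → e1 (T j) ∉ Submodule.span K {e1 (T j'), e2 (T j')} := by
          intro j j' hjj hmem
          obtain ⟨x, y, hxy⟩ := Submodule.mem_span_pair.1 hmem
          have h1 := congrArg (fun z => tri (pol F) a a z) hxy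
          simp only [tri_add₃, tri_smul₃, hφe1, hφe2, mul_zero, zero_add] at h1
          rw [(mul_eq_zero.1 h1).resolve_right f.cN, zero_smul, add_zero] at hxy
          refine hjj (es.injective (Subtype.ext ?_))
          rw [← hTc j, ← hTc j']
          have hx : x ≠ 0 := fun h0 => he1 _ (hT j) (by rw [← hxy, h0, zero_smul])
          show Submodule.span K {e1 (T j)} = Submodule.span K {e1 (T j')}
          rw [← hxy]
          exact Submodule.span_singleton_smul_eq (IsUnit.mk0 x hx) _
        have hWfin : Module.finrank K (LinearMap.ker m) = 3 := by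
          have h1 := Module.Dual.finrank_ker_add_one_of_ne_zero (hl i)
          rw [Module.finrank_fin_fun] at h1
          rw [← hm] at h1
          omega
        have hpl : ∀ j, ∃ μ : Module.Dual K (Fin 4 → K),
            Submodule.span K {e1 (T j), e2 (T j)} = LinearMap.ker m ⊓ LinearMap.ker μ := by
          intro j
          set S := Submodule.span K {e1 (T j), e2 (T j)}
          have hSW : S ≤ LinearMap.ker m := Submodule.span_le.2 (by
            simp [Set.insert_subset_iff, hme1 _ (hT j), hme2 _ (hT j)])
          have hS2 : Module.finrank K S = 2 := by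
            have hli : LinearIndependent K ![e1 (T j), e2 (T j)] := by
              rw [LinearIndependent.pair_iff' (he1 _ (hT j))]
              intro r hr
              have := congrArg (fun z => tri (pol F) a a z) hr
              simp only [tri_smul₃, hφe1, hφe2, mul_zero] at this
              exact f.cN this.symm
            rw [show S = Submodule.span K (Set.range ![e1 (T j), e2 (T j)]) by simp [S, Matrix.range_cons]; rw [Set.pair_comm],
              finrank_span_eq_card hli, Fintype.card_fin]
          obtain ⟨z, hzW, hzS⟩ : ∃ z ∈ LinearMap.ker m, z ∉ S := by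
            by_contra! hall
            have := Submodule.finrank_mono (show LinearMap.ker m ≤ S from hall)
            omega
          obtain ⟨μ, hμz, hμS⟩ := Submodule.exists_dual_map_eq_bot_of_notMem hzS inferInstance
          refine ⟨μ, Submodule.eq_of_le_of_finrank_le (le_inf hSW ?_) ?_⟩
          · intro w hw
            have hmem : μ w ∈ S.map μ := Submodule.mem_map_of_mem hw
            rw [hμS, Submodule.mem_bot] at hmem
            exact hmem
          · have hlt : LinearMap.ker m ⊓ LinearMap.ker μ < LinearMap.ker m :=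
              lt_of_le_of_ne inf_le_left fun h => hμz (by
                rw [← h] at hzW
                exact hzW.2)
            have := Submodule.finrank_lt_finrank_of_lt hlt
            omega
        choose μ hμ using hpl
        obtain ⟨z, hz, hFz⟩ := hplane m (hl i)
        refine hFz (eq_zero_of_four_lines F hF m (hl i) μ (fun j w hw hw' => ?_) (fun j j' hjj => ?_) z hz)
        · obtain ⟨x, y, rfl⟩ := Submodule.mem_span_pair.1
            (show w ∈ Submodule.span K {e1 (T j), e2 (T j)} by rw [hμ j]; exact ⟨hw, hw'⟩)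
          exact hline _ (hT j) x y
        · refine ⟨e1 (T j), hme1 _ (hT j), ?_, fun h0 => hTne j j' hjj ?_⟩
          · have : e1 (T j) ∈ Submodule.span K {e1 (T j), e2 (T j)} := Submodule.subset_span (by simp)
            rw [hμ j] at this
            exact this.2
          · rw [hμ j']
            exact ⟨hme1 _ (hT j), h0⟩
    · by_cases hb : m (bt t) = 0
      · exact Or.inl ⟨ht.1, ht.2, hb⟩
      · exact Or.inr ⟨ht.1, ht.2, hb⟩
  obtain ⟨t, ht⟩ := ((Set.finite_iUnion key).union hgoodc).exists_notMem
  have htg : t ∈ good := by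
    by_contra h
    exact ht (Or.inr h)
  have hne : ∀ i, dualP (l i) (p t) ≠ 0 := fun i h => ht (Or.inl (Set.mem_iUnion.2 ⟨i, htg, h⟩))
  obtain ⟨s, hs⟩ := (Set.finite_iUnion fun i => Polynomial.finite_setOfPred_isRoot (hne i)).exists_notMem
  refine ⟨fun j => (p t j).eval s, ?_, fun i h => hs (Set.mem_iUnion.2 ⟨i, ?_⟩)⟩
  · rw [eval_eq_tri F hF, ← eval_tri, hp t htg, Polynomial.eval_zero]
  · show (dualP (l i) (p t)).eval s = 0
    rw [eval_dualP]; exact h

end Frame

/-- Points through a singular point avoid finitely many planes. -/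
theorem exists_avoid_singular (F : MvPolynomial (Fin 4) K) (hF : F.IsHomogeneous 3) (hF0 : F ≠ 0) {a : Fin 4 → K}
    (hFa : tri (pol F) a a a = 0) (hsing : ∀ v, tri (pol F) a a v = 0)
    (hQ : ∃ v, tri (pol F) a v v ≠ 0)
    (hlin : ∀ φ : Module.Dual K (Fin 4 → K), ∀ c : K, ∃ v, eval v F ≠ c * tri (pol F) a v v * φ v)
    {ι : Type} [Finite ι] (l : ι → Module.Dual K (Fin 4 → K)) (hl : ∀ i, l i ≠ 0) :
    ∃ x, eval x F = 0 ∧ ∀ i, l i x ≠ 0 := by
  classical
  cases nonempty_fintype ι
  have hτ : IsSym (pol F) := pol_sym F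
  let R := MvPolynomial (Fin 4) K
  let Q : R := tri (pol F) (cst R a) X X
  have evalQ : ∀ v, eval v Q = tri (pol F) a v v := fun v => by
    rw [← aeval_eq_eval, tri_map]
    congr 1 <;> funext j <;> first
      | (simp [cst]; done)
      | exact MvPolynomial.eval_C (f := v) (a j)
  let P : ι → R := fun i => F * C (l i a) - 3 * Q * linP (l i)
  have hP : ∀ i, P i ≠ 0 := fun i h0 => by
    have hv : ∀ v, eval v F * l i a = 3 * tri (pol F) a v v * l i v := fun v => by
      have := congrArg (eval v) h0
      simp only [P, map_sub, map_mul, eval_C, map_ofNat, evalQ, eval_linP, map_zero] at this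
      linear_combination this
    by_cases ha : l i a = 0
    · obtain ⟨v, hv'⟩ := hQ
      have hQ0 : Q ≠ 0 := fun h => hv' (by rw [← evalQ, h, map_zero])
      refine mul_ne_zero hQ0 (linP_ne_zero (hl i)) (MvPolynomial.funext fun w => ?_)
      have := hv w
      rw [ha, mul_zero] at this
      rw [map_mul, evalQ, eval_linP, map_zero]
      exact mul_left_cancel₀ (three_ne_zero : (3 : K) ≠ 0) (by linear_combination -this)
    · obtain ⟨v, hv'⟩ := hlin (l i) (3 / l i a)
      refine hv' ?_
      rw [div_mul_eq_mul_div, div_mul_eq_mul_div, eq_div_iff ha]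
      linear_combination hv v
  by_contra hcon
  push Not at hcon
  refine (Finset.prod_ne_zero_iff.2 fun i (_ : i ∈ Finset.univ) => hP i) (MvPolynomial.funext fun v => ?_)
  rw [map_prod, map_zero]
  obtain ⟨i, hi⟩ := hcon (eval v F • a + (-(3 * tri (pol F) a v v)) • v) (by
    rw [eval_eq_tri F hF, cube_add hτ]
    simp only [tri_smul, tri_smul₂, tri_smul₃, hFa, hsing v]
    rw [eval_eq_tri F hF v]
    ring)
  refine Finset.prod_eq_zero (Finset.mem_univ i) ?_
  simp only [map_add, map_smul, smul_eq_mul] at hi
  simp only [P, map_sub, map_mul, eval_C, map_ofNat, evalQ, eval_linP]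
  linear_combination hi

end Groth.Agent.CubicPf
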