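import Groth.Agent.CubicPf.Tri
import Groth.Agent.PlaneBezout.Polar

/-!
# The tangent section of a cubic surface at a point
-/

set_option autoImplicit false

universe u v

open MvPolynomial

namespace Groth.Agent.CubicPf

variable {K : Type u} [Field K] [CharZero K]

/-- A constant vector. -/
def cst (R : Type v) [CommRing R] [Algebra K R] (x : Fin 4 → K) : Fin 4 → R := fun i => algebraMap K R (x i)

omit [CharZero K] in
theorem tri_cst {R : Type v} [CommRing R] [Algebra K R] (τ : Fin 4 → Fin 4 → Fin 4 → K) (x y z : Fin 4 → K) :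
    tri τ (cst R x) (cst R y) (cst R z) = algebraMap K R (tri τ x y z) :=
  (tri_map (Algebra.ofId K R) x y z).symm

theorem coeff_X_mul_derivative {R : Type u} [CommRing R] (f : Polynomial R) (m : ℕ) :
    (Polynomial.X * Polynomial.derivative f).coeff m = m * f.coeff m := by
  cases m with
  | zero => simp
  | succ m => rw [Polynomial.coeff_X_mul, Polynomial.coeff_derivative]; push_cast; ring

theorem eq_C_mul_of_wronskian {q e : Polynomial K} (hq : q ≠ 0) (h : Polynomial.wronskian q e = 0) :
    ∃ κ, e = Polynomial.C κ * q := by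
  refine ⟨e.coeff q.natDegree / q.leadingCoeff, ?_⟩
  set r := e - Polynomial.C (e.coeff q.natDegree / q.leadingCoeff) * q with hr
  rw [← sub_eq_zero, ← hr]
  by_contra hr0
  have hne : r.natDegree ≠ q.natDegree := fun heq => Polynomial.leadingCoeff_ne_zero.2 hr0 (by
    rw [← Polynomial.coeff_natDegree, heq, hr, Polynomial.coeff_sub, Polynomial.coeff_C_mul,
      Polynomial.coeff_natDegree, div_mul_cancel₀ _ (Polynomial.leadingCoeff_ne_zero.2 hq), sub_self])
  have hw : Polynomial.wronskian q r = 0 := by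
    rw [← h, hr]
    simp only [Polynomial.wronskian, Polynomial.derivative_sub, Polynomial.derivative_C_mul]
    ring
  have hd : ∀ f : Polynomial K, (Polynomial.X * Polynomial.derivative f).natDegree ≤ f.natDegree := fun f =>
    Polynomial.natDegree_le_iff_coeff_eq_zero.2 fun m hm => by
      rw [coeff_X_mul_derivative, Polynomial.coeff_eq_zero_of_natDegree_lt hm, mul_zero]
  have h1 : q * (Polynomial.X * Polynomial.derivative r) = (Polynomial.X * Polynomial.derivative q) * r := by
    rw [Polynomial.wronskian, sub_eq_zero] at hw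
    linear_combination Polynomial.X * hw
  have h2 := congrArg (fun f => f.coeff (q.natDegree + r.natDegree)) h1
  simp only [Polynomial.coeff_mul_add_eq_of_natDegree_le le_rfl (hd r),
    Polynomial.coeff_mul_add_eq_of_natDegree_le (hd q) le_rfl, coeff_X_mul_derivative, Polynomial.coeff_natDegree] at h2
  have h3 : ((r.natDegree : K) - q.natDegree) * (q.leadingCoeff * r.leadingCoeff) = 0 := by linear_combination h2
  exact mul_ne_zero (sub_ne_zero.2 (Nat.cast_injective.ne hne))
    (mul_ne_zero (Polynomial.leadingCoeff_ne_zero.2 hq) (Polynomial.leadingCoeff_ne_zero.2 hr0)) h3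

/-- The data of the tangent section at a smooth point. -/
structure Frame (τ : Fin 4 → Fin 4 → Fin 4 → K) (a : Fin 4 → K) where
  u : Fin 4 → K
  w : Fin 4 → K
  N : Fin 4 → K
  cu : tri τ a a u = 0
  cw : tri τ a a w = 0
  cN : tri τ a a N ≠ 0
  li : ∀ x y z : K, x • a + y • u + z • w = 0 → x = 0 ∧ y = 0 ∧ z = 0
  span : ∀ v, tri τ a a v = 0 → ∃ x y z : K, v = x • a + y • u + z • w

namespace Frame

variable {τ : Fin 4 → Fin 4 → Fin 4 → K} {a : Fin 4 → K} (f : Frame τ a)

/-- The moving direction. -/
noncomputable def dir : Fin 4 → Polynomial K :=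
  cst (Polynomial K) f.u + (Polynomial.X : Polynomial K) • cst (Polynomial K) f.w

/-- The quadratic part. -/
noncomputable def q : Polynomial K := 3 * tri τ (cst (Polynomial K) a) f.dir f.dir

/-- The cubic part. -/
noncomputable def c : Polynomial K := tri τ f.dir f.dir f.dir

/-- The parametrised tangent section. -/
noncomputable def b : Fin 4 → Polynomial K := f.c • cst (Polynomial K) a + (-f.q) • f.dir

/-- The numerator of the second derivative of the parametrisation. -/
noncomputable def D : Polynomial K :=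
  (Polynomial.derivative (Polynomial.derivative f.c) * f.q - f.c * Polynomial.derivative (Polynomial.derivative f.q)) * f.q
    - 2 * Polynomial.derivative f.q * (Polynomial.derivative f.c * f.q - f.c * Polynomial.derivative f.q)

omit [CharZero K] in
theorem aad : tri τ (cst (Polynomial K) a) (cst (Polynomial K) a) f.dir = 0 := by
  rw [dir, tri_add₃, tri_smul₃, tri_cst, tri_cst, f.cu, f.cw]
  simp

omit [CharZero K] in
theorem tri_b (hτ : IsSym τ) (hFa : tri τ a a a = 0) : tri τ f.b f.b f.b = 0 := by
  rw [b, cube_add hτ]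
  simp only [tri_smul, tri_smul₂, tri_smul₃, tri_cst, hFa, map_zero, f.aad]
  rw [q, c]
  ring

omit [CharZero K] in
theorem tri_abb (hτ : IsSym τ) (hFa : tri τ a a a = 0) : 3 * tri τ (cst (Polynomial K) a) f.b f.b = f.q ^ 3 := by
  rw [b, square_add hτ]
  simp only [tri_smul₂, tri_smul₃, tri_cst, hFa, map_zero, f.aad]
  rw [q]
  ring

omit [CharZero K] in
theorem derivative_b : (Polynomial.derivative ∘ f.b) =
    Polynomial.derivative f.c • cst (Polynomial K) a + (-Polynomial.derivative f.q) • f.dir + (-f.q) • cst (Polynomial K) f.w := by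
  funext i
  simp [b, dir, cst, Polynomial.derivative_mul]
  ring

omit [CharZero K] in
theorem derivative_derivative_b : (Polynomial.derivative ∘ Polynomial.derivative ∘ f.b) =
    Polynomial.derivative (Polynomial.derivative f.c) • cst (Polynomial K) a
      + (-Polynomial.derivative (Polynomial.derivative f.q)) • f.dir
      + (-(2 * Polynomial.derivative f.q)) • cst (Polynomial K) f.w := by
  funext i
  simp [b, dir, cst, Polynomial.derivative_mul]
  ring

omit [CharZero K] in
theorem sq_smul_derivative_derivative_b :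
    f.q ^ 2 • (Polynomial.derivative ∘ Polynomial.derivative ∘ f.b) =
      (Polynomial.derivative (Polynomial.derivative f.q) * f.q - 2 * Polynomial.derivative f.q ^ 2) • f.b
        + (2 * Polynomial.derivative f.q * f.q) • (Polynomial.derivative ∘ f.b) + f.D • cst (Polynomial K) a := by
  rw [derivative_derivative_b, derivative_b, b, D]
  funext i
  simp only [Pi.add_apply, Pi.smul_apply, smul_eq_mul]
  ring

attribute [local irreducible] tri b q c D

theorem tri_bbd (hτ : IsSym τ) (hFa : tri τ a a a = 0) : tri τ f.b f.b (Polynomial.derivative ∘ f.b) = 0 := by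
  have h : Polynomial.derivative (tri τ f.b f.b f.b) = 0 := by rw [f.tri_b hτ hFa, Polynomial.derivative_zero]
  rw [derivative_tri f.b f.b f.b, tri_comm₁ hτ (Polynomial.derivative ∘ f.b) f.b f.b,
    tri_comm₂ hτ f.b (Polynomial.derivative ∘ f.b) f.b] at h
  have h3 : (3 : Polynomial K) * tri τ f.b f.b (Polynomial.derivative ∘ f.b) = 0 := by linear_combination h
  exact (mul_eq_zero.1 h3).resolve_left (by norm_num)

theorem hess (hτ : IsSym τ) (hFa : tri τ a a a = 0) (hq : f.q ≠ 0) :
    6 * tri τ f.b (Polynomial.derivative ∘ f.b) (Polynomial.derivative ∘ f.b) = -(f.q * f.D) := by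
  have h : Polynomial.derivative (tri τ f.b f.b (Polynomial.derivative ∘ f.b)) = 0 := by
    rw [f.tri_bbd hτ hFa, Polynomial.derivative_zero]
  rw [derivative_tri f.b f.b (Polynomial.derivative ∘ f.b), tri_comm₁ hτ (Polynomial.derivative ∘ f.b) f.b (Polynomial.derivative ∘ f.b)] at h
  have h2 := congrArg (fun z => tri τ f.b f.b z) f.sq_smul_derivative_derivative_b
  simp only [tri_smul₃, tri_add₃, f.tri_b hτ hFa, f.tri_bbd hτ hFa] at h2
  have h4 := f.tri_abb hτ hFa
  rw [tri_comm₁ hτ, tri_comm₂ hτ] at h4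
  refine mul_left_cancel₀ (pow_ne_zero 2 hq) ?_
  linear_combination (3 * f.q ^ 2) * h - 3 * h2 - f.D * h4

end Frame

omit [CharZero K] in
theorem exists_frame (τ : Fin 4 → Fin 4 → Fin 4 → K) {a : Fin 4 → K} (ha : a ≠ 0) (hFa : tri τ a a a = 0)
    (hsm : ∃ v, tri τ a a v ≠ 0) : Nonempty (Frame τ a) := by
  let φ : (Fin 4 → K) →ₗ[K] K :=
    { toFun := fun v => tri τ a a v
      map_add' := fun x y => tri_add₃ a a x y
      map_smul' := fun r x => by rw [tri_smul₃]; rfl }
  obtain ⟨v, hv⟩ := hsm
  obtain ⟨e, he0, he⟩ := PlaneBezout.exists_frame a ha φ (fun h => hv (LinearMap.congr_fun h v)) hFa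
  have hx : ∀ x : Fin 4 → K, e x = x 0 • a + x 1 • e (Pi.single 1 1) + x 2 • e (Pi.single 2 1) + x 3 • e (Pi.single 3 1) := by
    intro x
    conv_lhs => rw [show x = x 0 • Pi.single 0 (1 : K) + x 1 • Pi.single 1 (1 : K) + x 2 • Pi.single 2 (1 : K)
        + x 3 • Pi.single 3 (1 : K) by funext i; fin_cases i <;> simp]
    simp only [map_add, map_smul, he0]
  refine ⟨⟨e (Pi.single 1 1), e (Pi.single 2 1), e (Pi.single 3 1), ?_, ?_, ?_, fun x y z h => ?_, fun v hv => ?_⟩⟩
  · show φ _ = 0
    rw [he]; simp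
  · show φ _ = 0
    rw [he]; simp
  · show φ _ ≠ 0
    rw [he]; simp
  · have h1 : ![x, y, z, 0] = (0 : Fin 4 → K) := e.injective (by rw [hx, map_zero]; simpa using h)
    exact ⟨by simpa using congrFun h1 0, by simpa using congrFun h1 1, by simpa using congrFun h1 2⟩
  · obtain ⟨y, rfl⟩ := e.surjective v
    have h3 : y 3 = 0 := (he y).symm.trans hv
    exact ⟨y 0, y 1, y 2, by conv_lhs => rw [hx, h3, zero_smul, add_zero]⟩

omit [CharZero K] in
/-- A degree one form from its coefficients. -/
theorem exists_lin {L : Type u} [Field L] {σ : Type} [Fintype σ] (c : σ → L) :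
    (∑ i, C (c i) * X i : MvPolynomial σ L).IsHomogeneous 1 :=
  IsHomogeneous.sum _ _ _ fun i _ => by simpa using (isHomogeneous_C σ (c i)).mul (isHomogeneous_X L i)

/-- At a point which is not a T-point the parametrised section has no dense set of flexes. -/
theorem D_ne_zero {L : Type u} [Field L] [IsAlgClosed L] [Algebra K L] (F : MvPolynomial (Fin 4) K)
    (hF : F.IsHomogeneous 3) {a : Fin 4 → K} (hFa : tri (pol F) a a a = 0) (f : Frame (pol F) a)
    (hT : ¬ ∃ L₁ L₂ L₃ : MvPolynomial (Fin 4) L, L₁.IsHomogeneous 1 ∧ L₂.IsHomogeneous 1 ∧ L₃.IsHomogeneous 1 ∧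
      map (algebraMap K L) F - L₁ * L₂ * L₃ ∈
        Ideal.span {∑ i, C (algebraMap K L (eval a (pderiv i F))) * X i}) : f.D ≠ 0 := by
  classical
  intro hD
  have hτ : IsSym (pol F) := pol_sym F
  let ℓ : (MvPolynomial (Fin 4) L) := ∑ i, C (algebraMap K L (eval a (pderiv i F))) * X i
  -- coordinates
  have hli : LinearIndependent K ![a, f.u, f.w, f.N] := by
    rw [Fintype.linearIndependent_iff]
    intro g hg
    simp [Fin.sum_univ_four] at hg
    have h1 := congrArg (fun v => tri (pol F) a a v) hg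
    simp only [tri_add₃, tri_smul₃, f.cu, f.cw, hFa, mul_zero, zero_add, tri_comm₂ hτ a a 0, tri_comm₁ hτ a 0 a,
      tri_zero] at h1
    have h3 : g 3 = 0 := (mul_eq_zero.1 h1).resolve_right f.cN
    rw [h3, zero_smul, add_zero] at hg
    obtain ⟨h0, h1', h2⟩ := f.li _ _ _ hg
    intro i; fin_cases i <;> assumption
  let B := basisOfLinearIndependentOfCardEqFinrank hli (by simp)
  let Y : Fin 4 → (MvPolynomial (Fin 4) L) := fun i => ∑ j, C (algebraMap K L (B.repr (Pi.single j 1) i)) * X j
  have hY : ∀ i, (Y i).IsHomogeneous 1 := fun i => exists_lin _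
  have hX : (X : Fin 4 → (MvPolynomial (Fin 4) L)) = Y 0 • cst (MvPolynomial (Fin 4) L) a + Y 1 • cst (MvPolynomial (Fin 4) L) f.u + Y 2 • cst (MvPolynomial (Fin 4) L) f.w + Y 3 • cst (MvPolynomial (Fin 4) L) f.N := by
    funext j
    have hsum : ∀ l, (Pi.single l (1 : K) : Fin 4 → K) j = B.repr (Pi.single l 1) 0 * a j + B.repr (Pi.single l 1) 1 * f.u j
        + B.repr (Pi.single l 1) 2 * f.w j + B.repr (Pi.single l 1) 3 * f.N j := fun l => by
      conv_lhs => rw [← B.sum_repr (Pi.single l 1)]
      simp [B, Fin.sum_univ_four]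
    simp only [Y, Pi.add_apply, Pi.smul_apply, smul_eq_mul, cst, Finset.sum_mul,
      IsScalarTower.algebraMap_apply K L (MvPolynomial (Fin 4) L), MvPolynomial.algebraMap_eq, ← Finset.sum_add_distrib]
    rw [Finset.sum_eq_single j]
    · have h1 := congrArg (fun r => C (algebraMap K L r) * (X j : (MvPolynomial (Fin 4) L))) (hsum j)
      simp only [Pi.single_eq_same, map_one, one_mul, map_add, map_mul] at h1
      linear_combination h1
    · intro l _ hl
      have h1 := congrArg (fun r => C (algebraMap K L r) * (X l : (MvPolynomial (Fin 4) L))) (hsum l)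
      simp only [Pi.single_eq_of_ne hl.symm, map_zero, zero_mul, map_add, map_mul] at h1
      linear_combination -h1
    · exact fun h => absurd (Finset.mem_univ j) h
  have hℓ : Y 3 * C (algebraMap K L (3 * tri (pol F) a a f.N)) = ℓ := by
    simp only [Y, Finset.sum_mul, ℓ]
    refine Finset.sum_congr rfl fun j _ => ?_
    have h1 := eval_pderiv_sum F hF a (Pi.single j 1)
    rw [Finset.sum_eq_single j (fun l _ hl => by rw [Pi.single_eq_of_ne hl, zero_mul])
      (fun h => absurd (Finset.mem_univ j) h), Pi.single_eq_same, one_mul] at h1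
    have h2 : tri (pol F) a a (Pi.single j 1) = B.repr (Pi.single j 1) 3 * tri (pol F) a a f.N := by
      conv_lhs => rw [← B.sum_repr (Pi.single j 1)]
      simp [B, Fin.sum_univ_four, tri_add₃, tri_smul₃, f.cu, f.cw, hFa]
    rw [h1, h2]
    simp only [map_mul, map_ofNat]
    ring
  -- the section as a polynomial in the coordinates
  let Q2 : MvPolynomial (Fin 2) L :=
    C (algebraMap K L (3 * tri (pol F) a f.u f.u)) * (X 0 * X 0) + C (algebraMap K L (6 * tri (pol F) a f.u f.w)) * (X 0 * X 1)
      + C (algebraMap K L (3 * tri (pol F) a f.w f.w)) * (X 1 * X 1)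
  let C3 : MvPolynomial (Fin 2) L :=
    C (algebraMap K L (tri (pol F) f.u f.u f.u)) * (X 0 * X 0 * X 0) + C (algebraMap K L (3 * tri (pol F) f.u f.u f.w)) * (X 0 * X 0 * X 1)
      + C (algebraMap K L (3 * tri (pol F) f.u f.w f.w)) * (X 0 * X 1 * X 1) + C (algebraMap K L (tri (pol F) f.w f.w f.w)) * (X 1 * X 1 * X 1)
  have hQ2 : Q2.IsHomogeneous 2 := by
    refine ((IsHomogeneous.add ?_ ?_).add ?_) <;>
      exact (isHomogeneous_C _ _).mul ((isHomogeneous_X L _).mul (isHomogeneous_X L _))
  have hC3 : C3.IsHomogeneous 3 := by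
    refine (((IsHomogeneous.add ?_ ?_).add ?_).add ?_) <;>
      exact (isHomogeneous_C _ _).mul (((isHomogeneous_X L _).mul (isHomogeneous_X L _)).mul (isHomogeneous_X L _))
  let π : MvPolynomial (Fin 2) L →ₐ[L] (MvPolynomial (Fin 4) L) := MvPolynomial.aeval ![Y 1, Y 2]
  have hmain : map (algebraMap K L) F - (Y 0 * π Q2 + π C3) ∈ Ideal.span {ℓ} := by
    have hFR : map (algebraMap K L) F = tri (pol F) (X : Fin 4 → (MvPolynomial (Fin 4) L)) X X := by
      rw [← aeval_eq_tri F hF, ← MvPolynomial.aeval_map_algebraMap L, MvPolynomial.aeval_X_left_apply]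
    rw [← Ideal.Quotient.eq_zero_iff_mem, map_sub, sub_eq_zero, hFR]
    let mk := Ideal.Quotient.mkₐ K (Ideal.span {ℓ})
    show mk (tri (pol F) (X : Fin 4 → (MvPolynomial (Fin 4) L)) X X) = mk _
    have h3 : mk (Y 3) = 0 := by
      rw [Ideal.Quotient.mkₐ_eq_mk, Ideal.Quotient.eq_zero_iff_mem, Ideal.mem_span_singleton]
      refine ⟨C (algebraMap K L (3 * tri (pol F) a a f.N))⁻¹, ?_⟩
      rw [← hℓ, mul_assoc, ← C_mul, mul_inv_cancel₀, C_1, mul_one]
      rw [map_ne_zero]
      exact mul_ne_zero three_ne_zero f.cN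
    have hX' : mk ∘ (X : Fin 4 → (MvPolynomial (Fin 4) L)) = mk ∘ (Y 0 • cst (MvPolynomial (Fin 4) L) a + (1 : (MvPolynomial (Fin 4) L)) • (Y 1 • cst (MvPolynomial (Fin 4) L) f.u + Y 2 • cst (MvPolynomial (Fin 4) L) f.w)) := by
      funext j
      conv_lhs => rw [hX]
      simp [h3, add_assoc]
    rw [tri_map, hX', ← tri_map]
    congr 1
    have haaU : tri (pol F) (cst (MvPolynomial (Fin 4) L) a) (cst (MvPolynomial (Fin 4) L) a) (cst (MvPolynomial (Fin 4) L) f.u) = 0 := by rw [tri_cst, f.cu, map_zero]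
    have haaW : tri (pol F) (cst (MvPolynomial (Fin 4) L) a) (cst (MvPolynomial (Fin 4) L) a) (cst (MvPolynomial (Fin 4) L) f.w) = 0 := by rw [tri_cst, f.cw, map_zero]
    rw [cube_add hτ, cube_add hτ, square_add hτ]
    simp only [tri_add₃, tri_add₂, tri_smul, tri_smul₂, tri_smul₃, haaU, haaW]
    simp only [tri_cst, hFa, map_zero, π, Q2, C3, map_add, map_mul, aeval_C, aeval_X, Matrix.cons_val,
      IsScalarTower.algebraMap_apply K L (MvPolynomial (Fin 4) L), map_ofNat]
    ring
  have split3 : ∀ P : MvPolynomial (Fin 2) L, P.IsHomogeneous 3 → ∃ L₁ L₂ L₃ : (MvPolynomial (Fin 4) L),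
      L₁.IsHomogeneous 1 ∧ L₂.IsHomogeneous 1 ∧ L₃.IsHomogeneous 1 ∧ π P = L₁ * L₂ * L₃ := by
    intro P hP
    obtain ⟨c, l, hl, rfl⟩ := PlaneBezout.binary_split 3 P hP
    have hπ : ∀ i, (π (l i)).IsHomogeneous 1 := fun i => by
      have := (hl i).1.aeval ![Y 1, Y 2] (m := 1) (fun j => by fin_cases j <;> exact hY _)
      show IsHomogeneous (aeval ![Y 1, Y 2] (l i)) 1
      simpa using this
    refine ⟨C c * π (l 0), π (l 1), π (l 2), by simpa using (isHomogeneous_C _ c).mul (hπ 0), hπ 1, hπ 2, ?_⟩
    simp only [π, Fin.prod_univ_three, map_mul, aeval_C, MvPolynomial.algebraMap_eq]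
    ring
  by_cases hq : f.q = 0
  · have hQ0 : Q2 = 0 := by
      have e : f.q = Polynomial.C (3 * tri (pol F) a f.u f.u) + Polynomial.C (6 * tri (pol F) a f.u f.w) * Polynomial.X
          + Polynomial.C (3 * tri (pol F) a f.w f.w) * Polynomial.X ^ 2 := by
        rw [Frame.q, Frame.dir, square_add hτ]
        simp only [tri_cst, Polynomial.algebraMap_eq, map_mul, map_ofNat]
        ring
      rw [hq] at e
      have e0 := congrArg (fun p => p.coeff 0) e
      have e1 := congrArg (fun p => p.coeff 1) e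
      have e2 := congrArg (fun p => p.coeff 2) e
      simp only [Polynomial.coeff_add, Polynomial.coeff_C_mul, Polynomial.coeff_X_pow, Polynomial.coeff_C,
        Polynomial.coeff_X, Polynomial.coeff_zero, Nat.reduceEqDiff, OfNat.ofNat_ne_zero, OfNat.ofNat_ne_one,
        OfNat.one_ne_ofNat, OfNat.zero_ne_ofNat, one_ne_zero, zero_ne_one, if_true, if_false, mul_one, mul_zero,
        add_zero, zero_add] at e0 e1 e2
      replace e0 := e0.symm
      replace e1 := e1.symm
      replace e2 := e2.symm
      simp only [Q2, e0, e1, e2, map_zero, zero_mul, add_zero]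
    obtain ⟨L₁, L₂, L₃, h1, h2, h3, hp⟩ := split3 C3 hC3
    refine hT ⟨L₁, L₂, L₃, h1, h2, h3, ?_⟩
    rwa [hQ0, map_zero, mul_zero, zero_add, hp] at hmain
  · set q := f.q with hqdef
    set c := f.c with hcdef
    have hW : Polynomial.wronskian (q ^ 2) (Polynomial.derivative c * q - c * Polynomial.derivative q) = 0 := by
      have : Polynomial.wronskian (q ^ 2) (Polynomial.derivative c * q - c * Polynomial.derivative q) = q * f.D := by
        simp only [Frame.D, Polynomial.wronskian, Polynomial.derivative_pow, Polynomial.derivative_sub,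
          Polynomial.derivative_mul, ← hqdef, ← hcdef]
        simp [Polynomial.C_ofNat]
        ring
      rw [this, hD, mul_zero]
    obtain ⟨κ, hκ⟩ := eq_C_mul_of_wronskian (pow_ne_zero 2 hq) hW
    obtain ⟨ν, hν⟩ := eq_C_mul_of_wronskian hq (e := c - Polynomial.C κ * Polynomial.X * q) (by
      simp only [Polynomial.wronskian, Polynomial.derivative_sub, Polynomial.derivative_mul, Polynomial.derivative_C,
        Polynomial.derivative_X]
      linear_combination hκ)
    have ec : c = Polynomial.C (tri (pol F) f.u f.u f.u) + Polynomial.C (3 * tri (pol F) f.u f.u f.w) * Polynomial.X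
        + Polynomial.C (3 * tri (pol F) f.u f.w f.w) * Polynomial.X ^ 2 + Polynomial.C (tri (pol F) f.w f.w f.w) * Polynomial.X ^ 3 := by
      rw [hcdef, Frame.c, Frame.dir, cube_add hτ]
      simp only [tri_cst, Polynomial.algebraMap_eq, map_mul, map_ofNat]
      ring
    have eq' : q = Polynomial.C (3 * tri (pol F) a f.u f.u) + Polynomial.C (6 * tri (pol F) a f.u f.w) * Polynomial.X
        + Polynomial.C (3 * tri (pol F) a f.w f.w) * Polynomial.X ^ 2 := by
      rw [hqdef, Frame.q, Frame.dir, square_add hτ]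
      simp only [tri_cst, Polynomial.algebraMap_eq, map_mul, map_ofNat]
      ring
    have hsum : c = (Polynomial.C κ * Polynomial.X + Polynomial.C ν) * q := by linear_combination hν
    set q0 := 3 * tri (pol F) a f.u f.u
    set q1 := 6 * tri (pol F) a f.u f.w
    set q2 := 3 * tri (pol F) a f.w f.w
    have hprod : c = Polynomial.C (ν * q0) + Polynomial.C (κ * q0 + ν * q1) * Polynomial.X
        + Polynomial.C (κ * q1 + ν * q2) * Polynomial.X ^ 2 + Polynomial.C (κ * q2) * Polynomial.X ^ 3 := by
      rw [hsum, eq']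
      simp only [map_add, map_mul]
      ring
    rw [ec] at hprod
    have e0 := congrArg (fun p => p.coeff 0) hprod
    have e1 := congrArg (fun p => p.coeff 1) hprod
    have e2 := congrArg (fun p => p.coeff 2) hprod
    have e3 := congrArg (fun p => p.coeff 3) hprod
    simp only [Polynomial.coeff_add, Polynomial.coeff_C_mul, Polynomial.coeff_X_pow, Polynomial.coeff_C,
      Polynomial.coeff_X, Nat.reduceEqDiff, OfNat.ofNat_ne_zero, OfNat.ofNat_ne_one, OfNat.one_ne_ofNat,
      OfNat.zero_ne_ofNat, one_ne_zero, zero_ne_one, if_true, if_false, mul_one, mul_zero, add_zero, zero_add]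
      at e0 e1 e2 e3
    have hC : C3 = (C (algebraMap K L ν) * X 0 + C (algebraMap K L κ) * X 1) * Q2 := by
      simp only [C3, Q2, e0, e1, e2, e3, q0, q1, q2, map_add, map_mul]
      ring
    obtain ⟨d, l, hl, hQ⟩ := PlaneBezout.binary_split 2 Q2 hQ2
    have hπ : ∀ i, (π (l i)).IsHomogeneous 1 := fun i => by
      have := (hl i).1.aeval ![Y 1, Y 2] (m := 1) (fun j => by fin_cases j <;> exact hY _)
      show IsHomogeneous (aeval ![Y 1, Y 2] (l i)) 1
      simpa using this
    refine hT ⟨C d * π (l 0), π (l 1), Y 0 + C (algebraMap K L ν) * Y 1 + C (algebraMap K L κ) * Y 2,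
      by simpa using (isHomogeneous_C _ d).mul (hπ 0), hπ 1,
      ((hY 0).add (by simpa using (isHomogeneous_C _ (algebraMap K L ν)).mul (hY 1))).add
        (by simpa using (isHomogeneous_C _ (algebraMap K L κ)).mul (hY 2)), ?_⟩
    have e : Y 0 * π Q2 + π C3 = C d * π (l 0) * π (l 1) * (Y 0 + C (algebraMap K L ν) * Y 1 + C (algebraMap K L κ) * Y 2) := by
      rw [hC, hQ, Fin.prod_univ_two]
      simp only [π, map_mul, map_add, aeval_C, aeval_X, MvPolynomial.algebraMap_eq, Matrix.cons_val]
      ring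
    rwa [e] at hmain

end Groth.Agent.CubicPf
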