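import Groth.Agent.CubicPf.Main

/-!
# Singular points of cubic surfaces and lines on them
-/

set_option autoImplicit false

universe u v

open MvPolynomial

namespace Groth.Agent.CubicPf

variable {K : Type u} [Field K] [CharZero K]

/-- Singular points of the form. -/
def IsSing (F : MvPolynomial (Fin 4) K) (x : Fin 4 → K) : Prop := ∀ v, tri (pol F) x x v = 0

theorem IsSing.eval_eq {F : MvPolynomial (Fin 4) K} (hF : F.IsHomogeneous 3) {x : Fin 4 → K} (h : IsSing F x) :
    eval x F = 0 := by rw [eval_eq_tri F hF]; exact h x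

omit [CharZero K] in
theorem IsSing.smul {F : MvPolynomial (Fin 4) K} {x : Fin 4 → K} (h : IsSing F x) (r : K) : IsSing F (r • x) :=
  fun v => by rw [tri_smul, tri_smul₂, h v, mul_zero, mul_zero]

omit [CharZero K] in
theorem IsSing.right {F : MvPolynomial (Fin 4) K} (hτ : IsSym (pol F)) {x : Fin 4 → K} (h : IsSing F x)
    (v : Fin 4 → K) : tri (pol F) v x x = 0 := by rw [tri_comm₁ hτ, tri_comm₂ hτ, h v]

omit [CharZero K] in
theorem IsSing.mid {F : MvPolynomial (Fin 4) K} (hτ : IsSym (pol F)) {x : Fin 4 → K} (h : IsSing F x)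
    (v : Fin 4 → K) : tri (pol F) x v x = 0 := by rw [tri_comm₂ hτ, h v]

/-- The classes of the singular points. -/
def singClasses (F : MvPolynomial (Fin 4) K) : Set (Submodule K (Fin 4 → K)) :=
  {U | ∃ x, x ≠ 0 ∧ IsSing F x ∧ U = Submodule.span K {x}}

theorem exists_dual_of_three {x y z : Fin 4 → K} :
    ∃ φ : Module.Dual K (Fin 4 → K), φ ≠ 0 ∧ φ x = 0 ∧ φ y = 0 ∧ φ z = 0 := by
  obtain ⟨φ, h, hx⟩ := exists_dual_of_linearIndependent (n := 3) (by norm_num) ![x, y, z]
  exact ⟨φ, h, hx 0, hx 1, hx 2⟩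

omit [CharZero K] in
theorem span_eq_of_li {n : ℕ} {x : Fin n → (Fin 4 → K)} (hx : LinearIndependent K x) {φ : Module.Dual K (Fin 4 → K)}
    (hn : n = 3) (hφ : φ ≠ 0) (h : ∀ i, φ (x i) = 0) : Submodule.span K (Set.range x) = LinearMap.ker φ := by
  refine Submodule.eq_of_le_of_finrank_le (Submodule.span_le.2 (by rintro _ ⟨i, rfl⟩; exact h i)) ?_
  rw [finrank_span_eq_card hx, Fintype.card_fin, hn]
  have h1 := Module.Dual.finrank_ker_add_one_of_ne_zero hφ
  rw [Module.finrank_fin_fun] at h1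
  omega

/-- A plane spanned by three singular points contains no further singular point. -/
theorem sing_in_span {F : MvPolynomial (Fin 4) K} (hF : F.IsHomogeneous 3) (hplane : NoPlane F)
    {x : Fin 3 → (Fin 4 → K)} (hx : LinearIndependent K x) (hs : ∀ i, IsSing F (x i)) (c : Fin 3 → K)
    (h : IsSing F (∑ i, c i • x i)) : ∃ i, ∀ j, j ≠ i → c j = 0 := by
  have hτ : IsSym (pol F) := pol_sym F
  set t := tri (pol F) (x 0) (x 1) (x 2)
  have hexp : ∀ d : Fin 3 → K, tri (pol F) (∑ i, d i • x i) (∑ i, d i • x i) (∑ i, d i • x i) =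
      6 * d 0 * d 1 * d 2 * t := fun d => by
    simp only [Fin.sum_univ_three, tri_add, tri_add₂, tri_add₃, tri_smul, tri_smul₂, tri_smul₃, hs _ _, (hs _).right hτ, (hs _).mid hτ]
    simp only [tri_comm₁ hτ (x 1) (x 0), tri_comm₁ hτ (x 2) (x 0), tri_comm₁ hτ (x 2) (x 1),
      tri_comm₂ hτ _ (x 2) (x 1), tri_comm₂ hτ _ (x 1) (x 0), tri_comm₂ hτ _ (x 2) (x 0), hs _ _, (hs _).right hτ, (hs _).mid hτ]
    ring
  have ht : t ≠ 0 := by
    intro ht
    obtain ⟨φ, hφ, h0, h1, h2⟩ := exists_dual_of_three (x := x 0) (y := x 1) (z := x 2)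
    obtain ⟨v, hv, hFv⟩ := hplane φ hφ
    have hmem : v ∈ Submodule.span K (Set.range x) := by
      rw [span_eq_of_li hx rfl hφ (fun i => by fin_cases i <;> assumption)]
      exact hv
    obtain ⟨d, rfl⟩ := (Submodule.mem_span_range_iff_exists_fun K).1 hmem
    exact hFv (by rw [eval_eq_tri F hF, hexp, ht, mul_zero])
  have e : ∀ l, tri (pol F) (∑ i, c i • x i) (∑ i, c i • x i) (x l) = 0 := fun l => h _
  have e0 := e 0
  have e1 := e 1
  have e2 := e 2
  simp only [Fin.sum_univ_three, tri_add, tri_add₂, tri_smul, tri_smul₂, hs _ _, (hs _).right hτ, (hs _).mid hτ,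
    tri_comm₁ hτ (x 1) (x 0), tri_comm₁ hτ (x 2) (x 0), tri_comm₁ hτ (x 2) (x 1),
    tri_comm₂ hτ _ (x 2) (x 1), tri_comm₂ hτ _ (x 1) (x 0), tri_comm₂ hτ _ (x 2) (x 0)] at e0 e1 e2
  have f0 : c 1 * c 2 = 0 := (mul_eq_zero.1 (show (c 1 * c 2) * (2 * t) = 0 by linear_combination e0)).resolve_right
    (mul_ne_zero two_ne_zero ht)
  have f1 : c 0 * c 2 = 0 := (mul_eq_zero.1 (show (c 0 * c 2) * (2 * t) = 0 by linear_combination e1)).resolve_right
    (mul_ne_zero two_ne_zero ht)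
  have f2 : c 0 * c 1 = 0 := (mul_eq_zero.1 (show (c 0 * c 1) * (2 * t) = 0 by linear_combination e2)).resolve_right
    (mul_ne_zero two_ne_zero ht)
  by_cases h0 : c 0 = 0
  · by_cases h1 : c 1 = 0
    · exact ⟨2, fun j hj => by fin_cases j <;> simp_all⟩
    · have h2 := (mul_eq_zero.1 f0).resolve_left h1
      exact ⟨1, fun j hj => by fin_cases j <;> simp_all⟩
  · have h1 := (mul_eq_zero.1 f2).resolve_left h0
    have h2 := (mul_eq_zero.1 f1).resolve_left h0
    exact ⟨0, fun j hj => by fin_cases j <;> simp_all⟩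

/-- Five or more singular points are collinear. -/
theorem sing_collinear {F : MvPolynomial (Fin 4) K} (hF : F.IsHomogeneous 3) (hplane : NoPlane F)
    (s : Finset (Submodule K (Fin 4 → K))) (hs : ↑s ⊆ singClasses F) (hcard : 5 ≤ s.card) :
    ∃ x y : Fin 4 → K, LinearIndependent K ![x, y] ∧ IsSing F x ∧ IsSing F y ∧
      ∀ z, IsSing F z → z ∈ Submodule.span K {x, y} := by
  classical
  have hτ : IsSym (pol F) := pol_sym F
  have pick : ∀ (T : Finset (Submodule K (Fin 4 → K))), T.card < 5 → ∃ U ∈ s, U ∉ T := fun T hT => by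
    obtain ⟨U, hU, hU'⟩ := Finset.exists_mem_notMem_of_card_lt_card (show T.card < s.card by omega)
    exact ⟨U, hU, hU'⟩
  obtain ⟨U, hU, -⟩ := pick ∅ (by simp)
  obtain ⟨x, hx0, hx, rfl⟩ := hs hU
  obtain ⟨V, hV, hVne⟩ := pick {Submodule.span K {x}} (by simp)
  obtain ⟨y, hy0, hy, rfl⟩ := hs hV
  have hxy : LinearIndependent K ![x, y] := by
    rw [LinearIndependent.pair_iff' hx0]
    intro r hr
    refine hVne (Finset.mem_singleton.2 ?_)
    have hr0 : r ≠ 0 := fun h => hy0 (by rw [← hr, h, zero_smul])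
    rw [← hr]
    exact Submodule.span_singleton_smul_eq (IsUnit.mk0 r hr0) x
  refine ⟨x, y, hxy, hx, hy, fun z hz => ?_⟩
  by_contra hmem
  have h3 : LinearIndependent K ![x, y, z] := by
    have e : (![x, y, z] : Fin 3 → (Fin 4 → K)) = Fin.snoc ![x, y] z := by
      funext i; fin_cases i <;> simp [Fin.snoc]
    rw [e, linearIndependent_finSnoc]
    refine ⟨hxy, ?_⟩
    rwa [show Set.range ![x, y] = {x, y} by simp [Matrix.range_cons]; rw [Set.pair_comm]]
  have hs3 : ∀ i, IsSing F (![x, y, z] i) := fun i => by fin_cases i <;> assumption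
  obtain ⟨W, hW, hWne⟩ := pick (Finset.univ.image fun i => Submodule.span K {![x, y, z] i})
    (lt_of_le_of_lt Finset.card_image_le (by simp))
  obtain ⟨w, hw0, hw, rfl⟩ := hs hW
  have h4 : LinearIndependent K (Fin.snoc ![x, y, z] w : Fin 4 → (Fin 4 → K)) := by
    rw [linearIndependent_finSnoc]
    refine ⟨h3, fun hmem' => ?_⟩
    obtain ⟨c, hc⟩ := (Submodule.mem_span_range_iff_exists_fun K).1 hmem'
    obtain ⟨i, hi⟩ := sing_in_span hF hplane h3 hs3 c (hc ▸ hw)
    refine hWne (Finset.mem_image.2 ⟨i, Finset.mem_univ _, ?_⟩)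
    have hsum : ∑ j, c j • ![x, y, z] j = c i • ![x, y, z] i :=
      Finset.sum_eq_single i (fun j _ hj => by rw [hi j hj, zero_smul]) (fun h => absurd (Finset.mem_univ i) h)
    rw [← hc, hsum]
    have hci : c i ≠ 0 := fun h => hw0 (by rw [← hc, hsum, h, zero_smul])
    exact (Submodule.span_singleton_smul_eq (IsUnit.mk0 _ hci) _).symm
  set e : Fin 4 → (Fin 4 → K) := Fin.snoc ![x, y, z] w with he
  have hse : ∀ i, IsSing F (e i) := fun i => by
    fin_cases i <;> simp [he, Fin.snoc] <;> assumption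
  obtain ⟨W', hW', hW'ne⟩ := pick (Finset.univ.image fun i => Submodule.span K {e i})
    (lt_of_le_of_lt Finset.card_image_le (by simp))
  obtain ⟨v, hv0, hv, rfl⟩ := hs hW'
  let B := basisOfLinearIndependentOfCardEqFinrank h4 (by simp)
  set c := fun i => B.repr v i
  have hsum : ∑ i : Fin 4, c i • e i = v := by
    conv_rhs => rw [← B.sum_repr v]
    simp [B, c, he]
  have hc : ∀ l, c l ≠ 0 := by
    intro l hl
    have hli : LinearIndependent K (e ∘ l.succAbove) := h4.comp _ Fin.succAbove_right_injective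
    obtain ⟨i, hi⟩ := sing_in_span hF hplane hli (fun i => hse _) (fun i => c (l.succAbove i)) (by
      have : ∑ i, c (l.succAbove i) • (e ∘ l.succAbove) i = v := by
        rw [← hsum, Fin.sum_univ_succAbove _ l, hl, zero_smul, zero_add]; rfl
      rw [this]; exact hv)
    refine hW'ne (Finset.mem_image.2 ⟨l.succAbove i, Finset.mem_univ _, ?_⟩)
    have hv' : v = c (l.succAbove i) • e (l.succAbove i) := by
      rw [← hsum, Fin.sum_univ_succAbove _ l, hl, zero_smul, zero_add,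
        Finset.sum_eq_single i (fun j _ hj => by rw [hi j hj, zero_smul]) (fun h => absurd (Finset.mem_univ i) h)]
    have hci : c (l.succAbove i) ≠ 0 := fun h => hv0 (by rw [hv', h, zero_smul])
    rw [hv']
    exact (Submodule.span_singleton_smul_eq (IsUnit.mk0 _ hci) _).symm
  have hv' := fun l => hv (e l)
  have q0 := hv' 0; have q1 := hv' 1; have q2 := hv' 2; have q3 := hv' 3
  rw [← hsum] at q0 q1 q2 q3
  simp only [Fin.sum_univ_four, tri_add, tri_add₂, tri_smul, tri_smul₂, hse _ _, (hse _).right hτ, (hse _).mid hτ] at q0 q1 q2 q3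
  simp only [tri_comm₁ hτ (e 1) (e 0), tri_comm₁ hτ (e 2) (e 0), tri_comm₁ hτ (e 3) (e 0), tri_comm₁ hτ (e 2) (e 1),
    tri_comm₁ hτ (e 3) (e 1), tri_comm₁ hτ (e 3) (e 2), tri_comm₂ hτ _ (e 1) (e 0), tri_comm₂ hτ _ (e 2) (e 0),
    tri_comm₂ hτ _ (e 3) (e 0), tri_comm₂ hτ _ (e 2) (e 1), tri_comm₂ hτ _ (e 3) (e 1), tri_comm₂ hτ _ (e 3) (e 2),
    hse _ _, (hse _).right hτ, (hse _).mid hτ, mul_zero, add_zero, zero_add] at q0 q1 q2 q3
  set a3 := tri (pol F) (e 0) (e 1) (e 2)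
  set a2 := tri (pol F) (e 0) (e 1) (e 3)
  set a1 := tri (pol F) (e 0) (e 2) (e 3)
  set a0 := tri (pol F) (e 1) (e 2) (e 3)
  have z3 : 3 * (c 0 * c 1 * c 2 * a3) = 0 := by linear_combination (c 0 * q0 + c 1 * q1 + c 2 * q2 - 2 * c 3 * q3) / 2
  have z2 : 3 * (c 0 * c 1 * c 3 * a2) = 0 := by linear_combination (c 0 * q0 + c 1 * q1 + c 3 * q3 - 2 * c 2 * q2) / 2
  have z1 : 3 * (c 0 * c 2 * c 3 * a1) = 0 := by linear_combination (c 0 * q0 + c 2 * q2 + c 3 * q3 - 2 * c 1 * q1) / 2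
  have z0 : 3 * (c 1 * c 2 * c 3 * a0) = 0 := by linear_combination (c 1 * q1 + c 2 * q2 + c 3 * q3 - 2 * c 0 * q0) / 2
  simp [hc] at z0 z1 z2 z3
  obtain ⟨r, -, hr⟩ := hplane (LinearMap.proj 0) (fun h => by
    have := LinearMap.congr_fun h (Pi.single 0 1)
    simp at this)
  refine hr ?_
  rw [eval_eq_tri F hF, ← B.sum_repr r, show (∑ i, B.repr r i • B i) = ∑ i : Fin 4, B.repr r i • B i from rfl]
  simp only [B, coe_basisOfLinearIndependentOfCardEqFinrank, Fin.sum_univ_four, tri_add, tri_add₂, tri_add₃,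
    tri_smul, tri_smul₂, tri_smul₃, hse _ _, (hse _).right hτ, (hse _).mid hτ]
  simp only [tri_comm₁ hτ (e 1) (e 0), tri_comm₁ hτ (e 2) (e 0), tri_comm₁ hτ (e 3) (e 0), tri_comm₁ hτ (e 2) (e 1),
    tri_comm₁ hτ (e 3) (e 1), tri_comm₁ hτ (e 3) (e 2), tri_comm₂ hτ _ (e 1) (e 0), tri_comm₂ hτ _ (e 2) (e 0),
    tri_comm₂ hτ _ (e 3) (e 0), tri_comm₂ hτ _ (e 2) (e 1), tri_comm₂ hτ _ (e 3) (e 1), tri_comm₂ hτ _ (e 3) (e 2),
    hse _ _, (hse _).right hτ, (hse _).mid hτ, z0, z1, z2, z3, mul_zero, add_zero, a0, a1, a2, a3]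

/-- A line through infinitely many singular points consists of singular points. -/
theorem sing_line {F : MvPolynomial (Fin 4) K} {x y : Fin 4 → K} (hx : IsSing F x) (hy : IsSing F y)
    {r : K} (hr : r ≠ 0) (hz : IsSing F (x + r • y)) (α β : K) : IsSing F (α • x + β • y) := by
  have hτ : IsSym (pol F) := pol_sym F
  intro v
  have h := hz v
  simp only [tri_add, tri_add₂, tri_smul, tri_smul₂, hx v, hy v, tri_comm₁ hτ y x, mul_zero, zero_add, add_zero] at h
  have h0 : tri (pol F) x y v = 0 :=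
    (mul_eq_zero.1 (show (2 * r) * tri (pol F) x y v = 0 by linear_combination h)).resolve_left (mul_ne_zero two_ne_zero hr)
  simp only [tri_add, tri_add₂, tri_smul, tri_smul₂, hx v, hy v, tri_comm₁ hτ y x, h0]
  ring

end Groth.Agent.CubicPf
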