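import Groth.Agent.CubicPf.Extension

/-!
# T-points in the tangent plane at a point which is not a T-point
-/

set_option autoImplicit false

universe u v

open MvPolynomial

namespace Groth.Agent.CubicPf

variable {L : Type u} [Field L] [CharZero L]

omit [CharZero L] in
theorem minsT_scale {τ : Fin 4 → Fin 4 → Fin 4 → L} (r : L) (a u w : Fin 4 → L) (i : Fin 4) :
    minsT τ (r • a) (r ^ 2 • u) (r ^ 2 • w) i = r ^ 16 * minsT τ a u w i := by
  fin_cases i <;> simp [minsT, mins, tri_smul, tri_smul₂, tri_smul₃] <;> ring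

/-- A homogeneous form which is nonzero at the centre of a nondegenerate frame and detects T-points. -/
theorem detector_at [IsAlgClosed L] (F : MvPolynomial (Fin 4) L) (hF : F.IsHomogeneous 3) {b : Fin 4 → L}
    (f : Frame (pol F) b) (hDb : f.D ≠ 0) :
    ∃ G : MvPolynomial (Fin 4) L, eval b G ≠ 0 ∧ (∀ (r : L) a, eval (r • a) G = r ^ 18 * eval a G) ∧
      ∀ a, eval a F = 0 → eval a G ≠ 0 → NotT L F a := by
  classical
  have hτ : IsSym (pol F) := pol_sym F
  have hphi : ∀ (a x : Fin 4 → L), eval x (∑ i, C (algebraMap L L (eval a (pderiv i F))) * X i) = 3 * tri (pol F) a a x := by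
    intro a x
    rw [← eval_pderiv_sum F hF, map_sum]
    exact Finset.sum_congr rfl fun i _ => by
      rw [map_mul, eval_C, eval_X, Algebra.algebraMap_self, RingHom.id_apply, mul_comm]
  have hid : ∀ (a : Fin 4 → L) (L₁ L₂ L₃ : MvPolynomial (Fin 4) L), L₁.IsHomogeneous 1 → L₂.IsHomogeneous 1 →
      L₃.IsHomogeneous 1 → map (algebraMap L L) F - L₁ * L₂ * L₃ ∈
        Ideal.span {∑ i, C (algebraMap L L (eval a (pderiv i F))) * X i} →
      ∃ ψ : Fin 3 → Module.Dual L (Fin 4 → L), ∀ x, tri (pol F) a a x = 0 → eval x F = ∏ i, ψ i x := by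
    intro a L₁ L₂ L₃ h1 h2 h3 hmem
    obtain ⟨ψ₁, e1⟩ := exists_dual_of_hom_one h1
    obtain ⟨ψ₂, e2⟩ := exists_dual_of_hom_one h2
    obtain ⟨ψ₃, e3⟩ := exists_dual_of_hom_one h3
    refine ⟨![ψ₁, ψ₂, ψ₃], fun x hx => ?_⟩
    obtain ⟨c, hc⟩ := Ideal.mem_span_singleton.1 hmem
    have h := congrArg (eval x) hc
    rw [map_sub, map_mul, map_mul, map_mul, hphi, hx, mul_zero, zero_mul, sub_eq_zero, Algebra.algebraMap_self,
      MvPolynomial.map_id, e1, e2, e3] at h
    rw [h, Fin.prod_univ_three]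
    rfl
  obtain ⟨i, hi⟩ : ∃ i, minsT (pol F) b f.u f.w i ≠ 0 := by
    by_contra! hall
    exact hDb (D_eq_zero_of_mins hτ f hall)
  let N₁ := (tri (pol F) b b f.N)⁻¹ • f.N
  have hN₁ : tri (pol F) b b N₁ = 1 := by rw [tri_smul₃, inv_mul_cancel₀ f.cN]
  let R := MvPolynomial (Fin 4) L
  let φN : R := tri (pol F) X X (cst R N₁)
  let vec : (Fin 4 → L) → (Fin 4 → R) := fun u => φN • cst R u + (-(tri (pol F) X X (cst R u))) • cst R N₁
  have hX : ∀ a : Fin 4 → L, ⇑(aeval a : R →ₐ[L] L) ∘ (X : Fin 4 → R) = a := fun a => funext fun j => aeval_X _ j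
  have hcst : ∀ (a z : Fin 4 → L), ⇑(aeval a : R →ₐ[L] L) ∘ cst R z = z := fun a z => funext fun j => by
    simp [cst, R, MvPolynomial.algebraMap_eq]
  have hφ : ∀ a z : Fin 4 → L, aeval a (tri (pol F) (X : Fin 4 → R) X (cst R z)) = tri (pol F) a a z := fun a z => by
    rw [tri_map, hX, hcst]
  have hvec : ∀ a u : Fin 4 → L, ⇑(aeval a : R →ₐ[L] L) ∘ vec u =
      tri (pol F) a a N₁ • u + (-(tri (pol F) a a u)) • N₁ := fun a u => funext fun j => by
    simp only [vec, φN, Function.comp_apply, Pi.add_apply, Pi.smul_apply, smul_eq_mul, map_add, map_mul, map_neg, hφ]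
    rw [show aeval a (cst R u j) = u j from congrFun (hcst a u) j, show aeval a (cst R N₁ j) = N₁ j from congrFun (hcst a N₁) j]
  let G : R := φN * minsT (pol F) (X : Fin 4 → R) (vec f.u) (vec f.w) i
  have evalG : ∀ a : Fin 4 → L, eval a G = tri (pol F) a a N₁ *
      minsT (pol F) a (tri (pol F) a a N₁ • f.u + (-(tri (pol F) a a f.u)) • N₁)
        (tri (pol F) a a N₁ • f.w + (-(tri (pol F) a a f.w)) • N₁) i := fun a => by
    rw [← aeval_eq_eval]
    show aeval a G = _
    simp only [G, map_mul, φN, hφ, minsT_map, hX, hvec]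
  have hGb : eval b G ≠ 0 := by
    rw [evalG, hN₁, f.cu, f.cw]
    simpa using hi
  refine ⟨G, hGb, fun r a => ?_, ?_⟩
  · rw [evalG, evalG]
    clear_value N₁
    simp only [tri_smul, tri_smul₂]
    have e : ∀ u : Fin 4 → L, (r * (r * tri (pol F) a a N₁)) • u + (-(r * (r * tri (pol F) a a u))) • N₁ =
        r ^ 2 • (tri (pol F) a a N₁ • u + (-(tri (pol F) a a u)) • N₁) := fun u => by
      funext j
      simp only [Pi.add_apply, Pi.smul_apply, smul_eq_mul]
      ring
    rw [e, e, minsT_scale]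
    ring
  · intro a hFa hG
    rintro ⟨L₁, L₂, L₃, h1, h2, h3, hmem⟩
    rw [evalG] at hG
    obtain ⟨hN, hm⟩ := mul_ne_zero_iff.1 hG
    obtain ⟨ψ, hψa⟩ := hid a L₁ L₂ L₃ h1 h2 h3 hmem
    set u := tri (pol F) a a N₁ • f.u + (-(tri (pol F) a a f.u)) • N₁ with hu
    set w := tri (pol F) a a N₁ • f.w + (-(tri (pol F) a a f.w)) • N₁ with hw
    have hau : tri (pol F) a a u = 0 := by
      rw [hu]; clear_value N₁; rw [tri_add₃, tri_smul₃, tri_smul₃]; ring
    have haw : tri (pol F) a a w = 0 := by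
      rw [hw]; clear_value N₁; rw [tri_add₃, tri_smul₃, tri_smul₃]; ring
    have haa : tri (pol F) a a a = 0 := by rw [← eval_eq_tri F hF, hFa]
    clear_value u w
    refine hm (mins_prod (fun l => ψ l a) (fun l => ψ l u) (fun l => ψ l w) (fun x y z => ?_) i)
    have hz := hψa (x • a + (1 : L) • (y • u + z • w)) (by
      simp only [tri_add₃, tri_smul₃, haa, hau, haw]; ring)
    rw [eval_eq_tri F hF, cube_add hτ] at hz
    simp only [map_add, map_smul, smul_eq_mul, one_mul, tri_add, tri_add₂, tri_add₃, tri_smul, tri_smul₂, tri_smul₃, haa,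
      hau, haw, tri_comm₁ hτ w u, tri_comm₂ hτ _ w u] at hz
    rw [show (∏ l, (x * ψ l a + y * ψ l u + z * ψ l w)) = ∏ l, (x * ψ l a + (y * ψ l u + z * ψ l w)) by
      simp only [add_assoc]]
    linear_combination hz

omit [CharZero L] in
theorem eval_dir {τ : Fin 4 → Fin 4 → Fin 4 → L} {a : Fin 4 → L} (f : Frame τ a) (t : L) :
    (fun i => (f.dir i).eval t) = f.u + t • f.w := by
  funext i
  simp [Frame.dir, cst]
  ring

omit [CharZero L] in
theorem eval_q {τ : Fin 4 → Fin 4 → Fin 4 → L} {a : Fin 4 → L} (f : Frame τ a) (t : L) :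
    f.q.eval t = 3 * tri τ a (f.u + t • f.w) (f.u + t • f.w) := by
  rw [Frame.q, Polynomial.eval_mul, eval_tri, eval_dir]
  simp [cst]

omit [CharZero L] in
theorem eval_c {τ : Fin 4 → Fin 4 → Fin 4 → L} {a : Fin 4 → L} (f : Frame τ a) (t : L) :
    f.c.eval t = tri τ (f.u + t • f.w) (f.u + t • f.w) (f.u + t • f.w) := by
  rw [Frame.c, eval_tri, eval_dir]

theorem q_ne_zero {τ : Fin 4 → Fin 4 → Fin 4 → L} {a : Fin 4 → L} (f : Frame τ a) (hD : f.D ≠ 0) : f.q ≠ 0 :=
  fun h => hD (by simp [Frame.D, h])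

theorem not_q_dvd_c {τ : Fin 4 → Fin 4 → Fin 4 → L} (hτ : IsSym τ) {a : Fin 4 → L} (f : Frame τ a) (hD : f.D ≠ 0)
    (hw : tri τ a f.w f.w ≠ 0) : ¬ f.q ∣ f.c := by
  rintro ⟨e, he⟩
  by_cases he0 : e = 0
  · exact hD (by simp [Frame.D, he, he0])
  have hc : f.c.natDegree ≤ 3 := by
    rw [Frame.c, Frame.dir, cube_add hτ]
    simp only [tri_cst, Polynomial.algebraMap_eq, show (3 : Polynomial L) = Polynomial.C 3 from (map_ofNat Polynomial.C 3).symm]
    compute_degree
  have hq : f.q.natDegree = 2 := by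
    have e1 : f.q = Polynomial.C (3 * tri τ a f.w f.w) * Polynomial.X ^ 2
        + Polynomial.C (6 * tri τ a f.u f.w) * Polynomial.X + Polynomial.C (3 * tri τ a f.u f.u) := by
      rw [Frame.q, Frame.dir, square_add hτ]
      simp only [tri_cst, Polynomial.algebraMap_eq, map_mul, map_ofNat]
      ring
    rw [e1]
    exact Polynomial.natDegree_quadratic (mul_ne_zero three_ne_zero hw)
  rw [he, Polynomial.natDegree_mul (q_ne_zero f hD) he0, hq] at hc
  have h2 : Polynomial.derivative (Polynomial.derivative e) = 0 := by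
    rw [Polynomial.eq_C_of_natDegree_le_zero ((Polynomial.natDegree_derivative_le e).trans (by omega))]
    exact Polynomial.derivative_C
  refine hD ?_
  simp only [Frame.D, he, Polynomial.derivative_mul, map_add, h2]
  ring

omit [CharZero L] in
/-- The span of a point of a nonzero scalar multiple. -/
theorem span_eq_of_smul {b x : Fin 4 → L} {r : L} (hb : b ≠ 0) (h : b = r • x) :
    Submodule.span L {b} = Submodule.span L {x} := by
  subst h
  exact Submodule.span_singleton_smul_eq (IsUnit.mk0 r fun h => hb (by rw [h, zero_smul])) x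

/-- Only finitely many points of the tangent section lie on the zero set of a form nonzero at the centre. -/
theorem finite_section (F : MvPolynomial (Fin 4) L) [IsAlgClosed L] (hF : F.IsHomogeneous 3) {a : Fin 4 → L}
    (haa : tri (pol F) a a a = 0) (f : Frame (pol F) a) (hD : f.D ≠ 0) (hw : tri (pol F) a f.w f.w ≠ 0)
    (G : MvPolynomial (Fin 4) L) (hGa : eval a G ≠ 0) (hGs : ∀ (r : L) x, eval (r • x) G = r ^ 18 * eval x G) :
    {U : Submodule L (Fin 4 → L) | ∃ b, b ≠ 0 ∧ U = Submodule.span L {b} ∧ tri (pol F) a a b = 0 ∧ eval b F = 0 ∧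
      eval b G = 0}.Finite := by
  classical
  have hτ := pol_sym F
  have hq0 := q_ne_zero f hD
  obtain ⟨q', c', hq, hc, hgu⟩ := extract_gcd f.q f.c
  set g := gcd f.q f.c with hg
  have hcop : IsCoprime q' c' := (gcd_isUnit_iff q' c').1 hgu
  have hq'0 : q' ≠ 0 := fun h => hq0 (by rw [hq, h, mul_zero])
  have hq'u : ¬ IsUnit q' := fun hu => not_q_dvd_c hτ f hD hw (by
    rw [hq, hc]
    exact mul_dvd_mul_left g hu.dvd)
  obtain ⟨t₀, ht₀⟩ := IsAlgClosed.exists_root q' (fun hd => hq'u (Polynomial.isUnit_iff_degree_eq_zero.2 hd))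
  have hct₀ : c'.eval t₀ ≠ 0 := fun h => by
    obtain ⟨x, y, hxy⟩ := hcop
    have := congrArg (Polynomial.eval t₀) hxy
    simp [ht₀.eq_zero, h] at this
  let vh : Fin 4 → Polynomial L := c' • cst (Polynomial L) a + (-q') • f.dir
  let h : Polynomial L := aeval vh G
  have hev : ∀ (v : Fin 4 → Polynomial L) t, (aeval v G).eval t = eval (fun i => (v i).eval t) G := fun v t => by
    have := MvPolynomial.comp_aeval_apply v (Polynomial.aeval t : Polynomial L →ₐ[L] L) G
    simpa [Polynomial.coe_aeval_eq_eval, MvPolynomial.aeval_eq_eval] using this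
  have hvh : ∀ t, (fun i => (vh i).eval t) = c'.eval t • a + (-(q'.eval t)) • (f.u + t • f.w) := fun t => by
    funext i
    simp [vh, Frame.dir, cst]
    exact Or.inl (mul_comm _ _)
  have hh : h ≠ 0 := fun h0 => by
    have := congrArg (Polynomial.eval t₀) h0
    rw [hev, hvh, ht₀.eq_zero, neg_zero, zero_smul, add_zero, hGs, Polynomial.eval_zero] at this
    exact mul_ne_zero (pow_ne_zero _ hct₀) hGa this
  let k : L → Polynomial L := fun t => aeval (cst (Polynomial L) a + (Polynomial.X : Polynomial L) • cst (Polynomial L) (f.u + t • f.w)) G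
  have hk : ∀ t s, (k t).eval s = eval (a + s • (f.u + t • f.w)) G := fun t s => by
    simp only [k, hev]
    congr 2
    funext i
    simp [cst]
    ring
  have hk0 : ∀ t, k t ≠ 0 := fun t h0 => by
    have := congrArg (Polynomial.eval 0) h0
    rw [hk, zero_smul, add_zero, Polynomial.eval_zero] at this
    exact hGa this
  let sp : (Fin 4 → L) → Submodule L (Fin 4 → L) := fun x => Submodule.span L {x}
  let T : Finset (Submodule L (Fin 4 → L)) :=
    {sp a, sp (tri (pol F) f.w f.w f.w • a + (-(3 * tri (pol F) a f.w f.w)) • f.w)}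
      ∪ h.roots.toFinset.image (fun t => sp (c'.eval t • a + (-(q'.eval t)) • (f.u + t • f.w)))
      ∪ f.q.roots.toFinset.biUnion (fun t =>
        {sp (f.u + t • f.w)} ∪ (k t).roots.toFinset.image (fun s => sp (a + s • (f.u + t • f.w))))
  refine T.finite_toSet.subset ?_
  rintro U ⟨b, hb, rfl, hbH, hbF, hbG⟩
  obtain ⟨x, y, z, rfl⟩ := f.span b hbH
  have he : ∀ (r : L) (e : Fin 4 → L), tri (pol F) a a e = 0 →
      eval (x • a + r • e) F = 3 * x * r ^ 2 * tri (pol F) a e e + r ^ 3 * tri (pol F) e e e := fun r e h => by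
    rw [eval_eq_tri F hF, cube_add hτ]
    simp only [tri_smul, tri_smul₂, tri_smul₃, haa, h]
    ring
  simp only [Finset.mem_coe, T, Finset.mem_union, Finset.mem_insert, Finset.mem_singleton, Finset.mem_image,
    Finset.mem_biUnion, Multiset.mem_toFinset]
  by_cases hy : y = 0
  · subst hy
    rw [zero_smul, add_zero] at hb hbF hbG ⊢
    by_cases hz : z = 0
    · subst hz
      exact Or.inl (Or.inl (Or.inl (span_eq_of_smul hb (r := x) (by simp))))
    · rw [he z f.w f.cw] at hbF
      have h1 : x * (3 * tri (pol F) a f.w f.w) + z * tri (pol F) f.w f.w f.w = 0 := by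
        have : z ^ 2 * (x * (3 * tri (pol F) a f.w f.w) + z * tri (pol F) f.w f.w f.w) = 0 := by linear_combination hbF
        exact (mul_eq_zero.1 this).resolve_left (pow_ne_zero _ hz)
      refine Or.inl (Or.inl (Or.inr (span_eq_of_smul hb (r := -z / (3 * tri (pol F) a f.w f.w)) ?_)))
      funext i
      simp only [Pi.add_apply, Pi.smul_apply, smul_eq_mul]
      field_simp
      linear_combination a i * h1
  · set t := z / y with ht
    set d := f.u + t • f.w with hd
    have hbe : x • a + y • f.u + z • f.w = x • a + y • d := by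
      funext i
      simp only [hd, ht, Pi.add_apply, Pi.smul_apply, smul_eq_mul]
      field_simp
      ring
    have had : tri (pol F) a a d = 0 := by rw [hd, tri_add₃, tri_smul₃, f.cu, f.cw]; ring
    rw [hbe] at hb hbF hbG ⊢
    rw [he y d had] at hbF
    have h1 : x * f.q.eval t + y * f.c.eval t = 0 := by
      rw [eval_q, eval_c, ← hd]
      have : y ^ 2 * (x * (3 * tri (pol F) a d d) + y * tri (pol F) d d d) = 0 := by linear_combination hbF
      exact (mul_eq_zero.1 this).resolve_left (pow_ne_zero _ hy)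
    by_cases hqt : f.q.eval t = 0
    · refine Or.inr ⟨t, (Polynomial.mem_roots hq0).2 hqt, ?_⟩
      by_cases hx : x = 0
      · subst hx
        exact Or.inl (span_eq_of_smul hb (r := y) (by simp [hd]))
      · have e : x • a + y • d = x • (a + (y / x) • d) := by
          funext i
          simp only [Pi.add_apply, Pi.smul_apply, smul_eq_mul]
          field_simp
        refine Or.inr ⟨y / x, (Polynomial.mem_roots (hk0 t)).2 ?_, (span_eq_of_smul hb e).symm⟩
        rw [Polynomial.IsRoot, hk]
        rw [e, hGs] at hbG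
        exact (mul_eq_zero.1 hbG).resolve_left (pow_ne_zero _ hx)
    · have hq't : q'.eval t ≠ 0 := fun h => hqt (by rw [hq, Polynomial.eval_mul, h, mul_zero])
      have hgt : g.eval t ≠ 0 := fun h => hqt (by rw [hq, Polynomial.eval_mul, h, zero_mul])
      have h2 : x * q'.eval t + y * c'.eval t = 0 := by
        rw [hq, hc, Polynomial.eval_mul, Polynomial.eval_mul] at h1
        have : g.eval t * (x * q'.eval t + y * c'.eval t) = 0 := by linear_combination h1
        exact (mul_eq_zero.1 this).resolve_left hgt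
      have e : x • a + y • d = (-y / q'.eval t) • (c'.eval t • a + (-(q'.eval t)) • d) := by
        funext i
        simp only [Pi.add_apply, Pi.smul_apply, smul_eq_mul]
        field_simp
        linear_combination a i * h2
      refine Or.inl (Or.inr ⟨t, (Polynomial.mem_roots hh).2 ?_, (span_eq_of_smul hb e).symm⟩)
      rw [Polynomial.IsRoot, hev, hvh, ← hd]
      rw [e, hGs] at hbG
      exact (mul_eq_zero.1 hbG).resolve_left (pow_ne_zero _ (div_ne_zero (neg_ne_zero.2 hy) hq't))

end Groth.Agent.CubicPf
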