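import Mathlib
import Groth.Agent.CubicPf.Pfaff
import Groth.Agent.Tritangent.Polar

/-!
# Symmetric trilinear forms attached to cubic forms
-/

set_option autoImplicit false

universe u v w

open MvPolynomial

namespace Groth.Agent.CubicPf

variable {k : Type u} [CommRing k] {R : Type v} [CommRing R] [Algebra k R]

/-- A trilinear form with coefficients in `k`. -/
def tri (τ : Fin 4 → Fin 4 → Fin 4 → k) (x y z : Fin 4 → R) : R :=
  ∑ i, ∑ j, ∑ l, τ i j l • (x i * y j * z l)

/-- Symmetry of the coefficients. -/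
structure IsSym (τ : Fin 4 → Fin 4 → Fin 4 → k) : Prop where
  h₁ : ∀ i j l, τ j i l = τ i j l
  h₂ : ∀ i j l, τ i l j = τ i j l

variable {τ : Fin 4 → Fin 4 → Fin 4 → k}

theorem cubeVal_eq_tri (Y : Fin 4 → R) : cubeVal τ Y = tri τ Y Y Y := rfl

theorem tri_add (x x' y z : Fin 4 → R) : tri τ (x + x') y z = tri τ x y z + tri τ x' y z := by
  simp only [tri, Pi.add_apply, add_mul, smul_add, Finset.sum_add_distrib]

theorem tri_smul (c : R) (x y z : Fin 4 → R) : tri τ (c • x) y z = c * tri τ x y z := by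
  simp only [tri, Pi.smul_apply, smul_eq_mul, Finset.mul_sum, mul_smul_comm, mul_assoc]

theorem tri_zero (y z : Fin 4 → R) : tri τ 0 y z = 0 := by simp [tri]

theorem tri_comm₁ (hτ : IsSym τ) (x y z : Fin 4 → R) : tri τ x y z = tri τ y x z := by
  unfold tri
  rw [Finset.sum_comm]
  refine Finset.sum_congr rfl fun i _ => Finset.sum_congr rfl fun j _ => Finset.sum_congr rfl fun l _ => ?_
  rw [hτ.h₁ i j l, mul_comm (x j) (y i)]

theorem tri_comm₂ (hτ : IsSym τ) (x y z : Fin 4 → R) : tri τ x y z = tri τ x z y := by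
  unfold tri
  refine Finset.sum_congr rfl fun i _ => ?_
  rw [Finset.sum_comm]
  refine Finset.sum_congr rfl fun j _ => Finset.sum_congr rfl fun l _ => ?_
  rw [hτ.h₂ i j l, mul_right_comm]

theorem tri_add₂ (x y y' z : Fin 4 → R) : tri τ x (y + y') z = tri τ x y z + tri τ x y' z := by
  simp only [tri, Pi.add_apply, mul_add, add_mul, smul_add, Finset.sum_add_distrib]

theorem tri_add₃ (x y z z' : Fin 4 → R) : tri τ x y (z + z') = tri τ x y z + tri τ x y z' := by
  simp only [tri, Pi.add_apply, mul_add, smul_add, Finset.sum_add_distrib]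

theorem tri_smul₂ (c : R) (x y z : Fin 4 → R) : tri τ x (c • y) z = c * tri τ x y z := by
  simp only [tri, Pi.smul_apply, smul_eq_mul, Finset.mul_sum]
  refine Finset.sum_congr rfl fun i _ => Finset.sum_congr rfl fun j _ => Finset.sum_congr rfl fun l _ => ?_
  simp only [Algebra.smul_def]; ring

theorem tri_smul₃ (c : R) (x y z : Fin 4 → R) : tri τ x y (c • z) = c * tri τ x y z := by
  simp only [tri, Pi.smul_apply, smul_eq_mul, Finset.mul_sum]
  refine Finset.sum_congr rfl fun i _ => Finset.sum_congr rfl fun j _ => Finset.sum_congr rfl fun l _ => ?_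
  simp only [Algebra.smul_def]; ring

theorem tri_map {S : Type w} [CommRing S] [Algebra k S] (φ : R →ₐ[k] S) (x y z : Fin 4 → R) :
    φ (tri τ x y z) = tri τ (φ ∘ x) (φ ∘ y) (φ ∘ z) := by
  simp [tri, map_sum]

theorem cube_add (hτ : IsSym τ) (x y : Fin 4 → R) (c : R) :
    tri τ (x + c • y) (x + c • y) (x + c • y) =
      tri τ x x x + 3 * c * tri τ x x y + 3 * c ^ 2 * tri τ x y y + c ^ 3 * tri τ y y y := by
  simp only [tri_add, tri_add₂, tri_add₃, tri_smul, tri_smul₂, tri_smul₃]
  rw [tri_comm₁ hτ y x x, tri_comm₂ hτ x y x, tri_comm₂ hτ y y x, tri_comm₁ hτ y x y]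
  ring

theorem square_add (hτ : IsSym τ) (z x y : Fin 4 → R) (c : R) :
    tri τ z (x + c • y) (x + c • y) = tri τ z x x + 2 * c * tri τ z x y + c ^ 2 * tri τ z y y := by
  simp only [tri_add₂, tri_add₃, tri_smul₂, tri_smul₃]
  rw [tri_comm₂ hτ z y x]
  ring

theorem derivative_tri {k : Type u} [CommRing k] {τ : Fin 4 → Fin 4 → Fin 4 → k} (x y z : Fin 4 → Polynomial k) :
    Polynomial.derivative (tri τ x y z) =
      tri τ (Polynomial.derivative ∘ x) y z + tri τ x (Polynomial.derivative ∘ y) z +
        tri τ x y (Polynomial.derivative ∘ z) := by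
  simp only [tri, map_sum, Polynomial.derivative_smul, Polynomial.derivative_mul, Function.comp_apply,
    add_mul, smul_add, Finset.sum_add_distrib]

section Coefficients

variable {K : Type u} [Field K] [CharZero K]

/-- The coefficients of the polarisation of a cubic form. -/
noncomputable def pol (F : MvPolynomial (Fin 4) K) (i j l : Fin 4) : K :=
  (6 : K)⁻¹ * constantCoeff (pderiv i (pderiv j (pderiv l F)))

omit [CharZero K] in
theorem pol_sym (F : MvPolynomial (Fin 4) K) : IsSym (pol F) where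
  h₁ i j l := by rw [pol, pol, Tritangent.pderiv_comm]
  h₂ i j l := by rw [pol, pol, Tritangent.pderiv_comm j l]

theorem X_tri_pol (F : MvPolynomial (Fin 4) K) (hF : F.IsHomogeneous 3) :
    tri (pol F) (X : Fin 4 → MvPolynomial (Fin 4) K) X X = F := by
  have h0 : ∀ f : MvPolynomial (Fin 4) K, f.IsHomogeneous 0 → f = C (constantCoeff f) := fun f hf => by
    rw [constantCoeff_eq]
    exact totalDegree_eq_zero_iff_eq_C.1 (Nat.le_zero.1 hf.totalDegree_le)
  have e3 := hF.sum_X_mul_pderiv
  have e2 : ∀ i, ∑ j, X j * pderiv j (pderiv i F) = 2 • pderiv i F := fun i => hF.pderiv.sum_X_mul_pderiv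
  have e1 : ∀ i j, ∑ l, X l * pderiv l (pderiv j (pderiv i F)) = 1 • pderiv j (pderiv i F) := fun i j =>
    hF.pderiv.pderiv.sum_X_mul_pderiv
  have h6 : (6 : MvPolynomial (Fin 4) K) * tri (pol F) X X X = 6 * F := by
    calc (6 : MvPolynomial (Fin 4) K) * tri (pol F) X X X
        = ∑ i, X i * ∑ j, X j * ∑ l, X l * pderiv l (pderiv j (pderiv i F)) := by
          simp only [tri, Finset.mul_sum, pol]
          refine Finset.sum_congr rfl fun i _ => Finset.sum_congr rfl fun j _ =>
            Finset.sum_congr rfl fun l _ => ?_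
          rw [h0 _ (hF.pderiv.pderiv.pderiv (i := l)), smul_eq_C_mul, ← mul_assoc,
            show (6 : MvPolynomial (Fin 4) K) = C 6 from (map_ofNat C 6).symm, ← C_mul,
            mul_inv_cancel_left₀ (by norm_num : (6 : K) ≠ 0)]
          rw [Tritangent.pderiv_comm i j (pderiv l F), Tritangent.pderiv_comm i l F,
            Tritangent.pderiv_comm j l (pderiv i F)]
          ring
      _ = 6 * F := by
          simp only [e1, one_smul, e2, nsmul_eq_mul, mul_left_comm (X _), ← Finset.mul_sum, e3]
          push_cast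
          ring
  exact mul_left_cancel₀ (by norm_num) h6

theorem aeval_eq_tri (F : MvPolynomial (Fin 4) K) (hF : F.IsHomogeneous 3) {S : Type v} [CommRing S]
    [Algebra K S] (x : Fin 4 → S) : aeval x F = tri (pol F) x x x := by
  conv_lhs => rw [← X_tri_pol F hF]
  rw [tri_map]
  simp [Function.comp_def]

theorem eval_eq_tri (F : MvPolynomial (Fin 4) K) (hF : F.IsHomogeneous 3) (x : Fin 4 → K) :
    eval x F = tri (pol F) x x x := by rw [← aeval_eq_eval, aeval_eq_tri F hF]

theorem eval_pderiv_sum (F : MvPolynomial (Fin 4) K) (hF : F.IsHomogeneous 3) (x y : Fin 4 → K) :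
    ∑ i, y i * eval x (pderiv i F) = 3 * tri (pol F) x x y := by
  have hd : ∀ i, eval x (pderiv i F) = 3 * ∑ j, ∑ l, pol F i j l * (x j * x l) := fun i => by
    have e2 : ∑ j, X j * pderiv j (pderiv i F) = 2 • pderiv i F := hF.pderiv.sum_X_mul_pderiv
    have e1 : ∀ j, ∑ l, X l * pderiv l (pderiv j (pderiv i F)) = 1 • pderiv j (pderiv i F) := fun j =>
      hF.pderiv.pderiv.sum_X_mul_pderiv
    have hc : ∀ j l, eval x (pderiv l (pderiv j (pderiv i F))) = 6 * pol F i j l := fun j l => by
      have h0 := totalDegree_eq_zero_iff_eq_C.1 (Nat.le_zero.1 (hF.pderiv.pderiv.pderiv (i := l) : (pderiv l (pderiv j (pderiv i F))).IsHomogeneous _).totalDegree_le)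
      rw [pol, Tritangent.pderiv_comm i j (pderiv l F), Tritangent.pderiv_comm i l F,
        Tritangent.pderiv_comm j l (pderiv i F), ← mul_assoc, mul_inv_cancel₀ (by norm_num : (6 : K) ≠ 0), one_mul,
        constantCoeff_eq]
      conv_lhs => rw [h0, eval_C]
    have h2 : ∀ j, eval x (pderiv j (pderiv i F)) = ∑ l, x l * (6 * pol F i j l) := fun j => by
      have h3 := congrArg (eval x) (e1 j)
      rw [one_smul, map_sum] at h3
      simp only [map_mul, eval_X, hc] at h3
      exact h3.symm
    have h1 := congrArg (eval x) e2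
    rw [map_sum, map_nsmul, nsmul_eq_mul] at h1
    simp only [map_mul, eval_X, h2, Finset.mul_sum, Nat.cast_ofNat] at h1
    refine mul_left_cancel₀ (two_ne_zero : (2 : K) ≠ 0) ?_
    rw [← h1]
    simp only [Finset.mul_sum]
    exact Finset.sum_congr rfl fun j _ => Finset.sum_congr rfl fun l _ => by ring
  rw [tri_comm₂ (pol_sym F), tri_comm₁ (pol_sym F)]
  simp only [hd, tri, smul_eq_mul, Finset.mul_sum]
  exact Finset.sum_congr rfl fun i _ => Finset.sum_congr rfl fun j _ => Finset.sum_congr rfl fun l _ => by ring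

end Coefficients

end Groth.Agent.CubicPf
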